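import Cfsg.Agent.Lib.SFourFree.NoOffender
import Cfsg.Agent.Lib.ConjFun.Basic
import Cfsg.Agent.Lib.Replacement.Constrained
import Cfsg.Agent.S2759

/-!
# Constrained `S₄`-free groups are generated by `C(Z(S))` and `N(J_e(S))`

* `noS3_of_sFourFree`; `le_centralizer_center_of_omega` (norm argument);
* `sup_eq_top_of_sFourFree`.
-/

set_option autoImplicit false
set_option linter.style.haveILetI false

namespace Cfsg.Agent.SFourFree

open Subgroup
open scoped commutatorElement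

universe u

variable {G : Type u} [Group G] [Finite G]

omit [Finite G] in
theorem noS3_of_sFourFree [Finite G] (hfree : ¬ Cfsg.Involves (Equiv.Perm (Fin 4)) G) {V : Subgroup G}
    [V.Normal] (hV : IsPGroup 2 V) : NoS3 V := by
  intro K φ hker hs
  refine hfree (S2759.result.2 ⟨V, hV, ?_⟩)
  set N := normalizer (V : Set G) with hN
  set C := (centralizer (V : Set G)).subgroupOf N with hC
  have hKN : K ≤ N := by rw [hN, normalizer_eq_top]; exact le_top
  set r : ↥K →* ↥N ⧸ C := (QuotientGroup.mk' C).comp (inclusion hKN) with hr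
  have hle : r.ker ≤ φ.ker := fun x hx =>
    hker x (mem_subgroupOf.1 ((QuotientGroup.eq_one_iff (inclusion hKN x)).1 hx))
  let ψ : ↥r.range →* Equiv.Perm (Fin 3) :=
    r.rangeRestrict.liftOfSurjective r.rangeRestrict_surjective
      ⟨φ, by rwa [MonoidHom.ker_rangeRestrict]⟩
  refine ConjFun.involves_of_surjective r.range ψ fun x => ?_
  obtain ⟨k, rfl⟩ := hs x
  exact ⟨r.rangeRestrict k, MonoidHom.liftOfRightInverse_comp_apply _ _ _ _ _⟩

/-- If `H ≥ S` centralizes `Ω₁ Z(S)` then it centralizes `Z(S)` (`Z(S)` in an abelian normal 2-group). -/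
theorem le_centralizer_center_of_omega (S : Sylow 2 G) {A₀ H : Subgroup G} [A₀.Normal]
    (hA₀c : IsMulCommutative A₀) (hSH : (S : Subgroup G) ≤ H)
    (hZA : (S : Subgroup G) ⊓ centralizer ((S : Subgroup G) : Set G) ≤ A₀)
    (hA₀S : A₀ ≤ (S : Subgroup G))
    (hH : H ≤ centralizer ((Cfsg.omegaOne 2
      ((S : Subgroup G) ⊓ centralizer ((S : Subgroup G) : Set G)) : Subgroup G) : Set G)) :
    H ≤ centralizer (((S : Subgroup G) ⊓ centralizer ((S : Subgroup G) : Set G) : Subgroup G) :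
      Set G) := by
  classical
  set Z := (S : Subgroup G) ⊓ centralizer ((S : Subgroup G) : Set G) with hZ
  suffices key : ∀ n, ∀ z ∈ Z, orderOf z = n → ∀ h ∈ H, h * z * h⁻¹ = z by
    exact fun h hh => mem_centralizer_iff.2 fun z hz =>
      (mul_inv_eq_iff_eq_mul.1 (key _ z hz rfl h hh)).symm
  intro n
  induction n using Nat.strong_induction_on with
  | _ n IH =>
  intro z hz hn
  rcases eq_or_ne z 1 with rfl | hz1
  · simp
  obtain ⟨k, hk⟩ := S.2 ⟨z, hz.1⟩
  have hk' : z ^ 2 ^ k = 1 := congrArg Subtype.val hk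
  have hsq : ∀ h ∈ H, h * z ^ 2 * h⁻¹ = z ^ 2 := by
    refine IH _ ?_ _ (pow_mem hz 2) rfl
    rw [← hn, orderOf_pow' z two_ne_zero]
    obtain ⟨j, -, hj⟩ := (Nat.dvd_prime_pow Nat.prime_two).1 (orderOf_dvd_of_pow_eq_one hk')
    rw [hj]
    rcases j with _ | j
    · exact absurd (orderOf_eq_one_iff.1 hj) hz1
    · rw [Nat.gcd_eq_right (dvd_pow_self 2 j.succ_ne_zero)]
      exact Nat.div_lt_self (by positivity) one_lt_two
  haveI := hA₀c
  letI : CommGroup ↥A₀ := { (inferInstance : Group ↥A₀) with mul_comm := hA₀c.is_comm.comm }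
  set z₀ : ↥A₀ := ⟨z, hZA hz⟩
  have hconj : ∀ (g : G), ∀ a : ↥A₀, g * (a : G) * g⁻¹ ∈ A₀ := fun g a =>
    Normal.conj_mem inferInstance _ a.2 g
  let f : ↥H → ↥A₀ := fun h => ⟨(h : G) * z * (h : G)⁻¹, hconj h z₀⟩
  let F : ↥H ⧸ (S : Subgroup G).subgroupOf H → ↥A₀ := fun q => Quotient.liftOn' q f (fun a b hab => by
    rw [QuotientGroup.leftRel_apply, mem_subgroupOf] at hab
    have h1 : (a : G)⁻¹ * (b : G) * z = z * ((a : G)⁻¹ * (b : G)) :=
      mem_centralizer_iff.1 hz.2 _ hab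
    refine Subtype.ext ?_
    show (a : G) * z * (a : G)⁻¹ = (b : G) * z * (b : G)⁻¹
    rw [mul_inv_eq_iff_eq_mul, ← mul_left_cancel_iff (a := (a : G)⁻¹)]
    calc (a : G)⁻¹ * ((a : G) * z) = z := by group
      _ = z * ((a : G)⁻¹ * (b : G)) * ((b : G)⁻¹ * (a : G)) := by group
      _ = (a : G)⁻¹ * (b : G) * z * ((b : G)⁻¹ * (a : G)) := by rw [h1]
      _ = (a : G)⁻¹ * ((b : G) * z * (b : G)⁻¹ * (a : G)) := by group)
  have := Fintype.ofFinite (↥H ⧸ (S : Subgroup G).subgroupOf H)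
  set P : ↥A₀ := ∏ q, F q with hP
  set N := Fintype.card (↥H ⧸ (S : Subgroup G).subgroupOf H) with hN
  have hFsq : ∀ q, F q ^ 2 = z₀ ^ 2 := fun q => by
    induction q using Quotient.inductionOn' with
    | h a =>
      refine Subtype.ext ?_
      show ((a : G) * z * (a : G)⁻¹) ^ 2 = z ^ 2
      rw [conj_pow]
      exact hsq _ a.2
  have hPfix : ∀ k : ↥H, (k : G) * (P : G) * (k : G)⁻¹ = P := by
    intro k
    let c : ↥A₀ →* ↥A₀ := MonoidHom.mk' (fun a => ⟨(k : G) * a * (k : G)⁻¹, hconj k a⟩)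
      fun a b => Subtype.ext (by simp [mul_assoc])
    have h1 : c P = P := by
      rw [hP, map_prod]
      refine Fintype.prod_equiv (MulAction.toPerm k) _ _ fun q => ?_
      induction q using Quotient.inductionOn' with
      | h a =>
        refine Subtype.ext ?_
        show (k : G) * ((a : G) * z * (a : G)⁻¹) * (k : G)⁻¹ = _
        show _ = ((k * a : ↥H) : G) * z * ((k * a : ↥H) : G)⁻¹
        simp [mul_assoc]
    exact congrArg Subtype.val h1
  set ζ : ↥A₀ := P * (z₀ ^ N)⁻¹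
  have hζ2 : (ζ : G) ^ 2 = 1 := by
    have : ζ ^ 2 = 1 := by
      rw [mul_pow, hP, ← Finset.prod_pow, Finset.prod_congr rfl (fun q _ => hFsq q),
        Finset.prod_const, Finset.card_univ, inv_pow, ← pow_mul, ← pow_mul, mul_comm N 2,
        mul_inv_cancel]
    exact congrArg Subtype.val this
  have hζZ : (ζ : G) ∈ Z := by
    refine ⟨hA₀S ζ.2, mem_centralizer_iff.2 fun s hs => ?_⟩
    have h1 := hPfix ⟨s, hSH hs⟩
    have h2 : s * z ^ N = z ^ N * s :=
      Commute.pow_right (show Commute s z from mem_centralizer_iff.1 hz.2 s hs) N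
    have h3 : Commute s (P : G) := mul_inv_eq_iff_eq_mul.1 h1
    exact h3.mul_right (Commute.inv_right h2)
  have hζfix : ∀ h ∈ H, h * (ζ : G) * h⁻¹ = ζ := fun h hh => by
    have := mem_centralizer_iff.1 (hH hh) (ζ : G) (subset_closure ⟨hζZ, hζ2⟩)
    rw [← this, mul_inv_cancel_right]
  have hN2 : ¬ 2 ∣ N := by
    rw [hN, ← Nat.card_eq_fintype_card, ← index_eq_card]
    exact fun hd => S.not_dvd_index (hd.trans (relIndex_dvd_index_of_le hSH))
  intro h hh
  have hfix : h * z ^ N * h⁻¹ = z ^ N := by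
    have e : z ^ N = ((ζ : G))⁻¹ * (P : G) := by
      have : z₀ ^ N = ζ⁻¹ * P := by
        show z₀ ^ N = (P * (z₀ ^ N)⁻¹)⁻¹ * P
        rw [mul_inv_rev, inv_inv, inv_mul_cancel_right]
      exact congrArg Subtype.val this
    have h1 := hζfix h hh
    have h2 := hPfix ⟨h, hh⟩
    rw [e]
    calc h * ((ζ : G)⁻¹ * (P : G)) * h⁻¹ = (h * (ζ : G) * h⁻¹)⁻¹ * (h * (P : G) * h⁻¹) := by group
      _ = (ζ : G)⁻¹ * (P : G) := by rw [h1, h2]
  have hcop : (orderOf z).Coprime N := by
    obtain ⟨j, -, hj⟩ := (Nat.dvd_prime_pow Nat.prime_two).1 (orderOf_dvd_of_pow_eq_one hk')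
    rw [hj]
    exact ((Nat.Prime.coprime_iff_not_dvd Nat.prime_two).2 hN2).pow_left j
  obtain ⟨m, hm⟩ := exists_pow_eq_self_of_coprime hcop.symm
  rw [← hm]
  conv_rhs => rw [← hfix]
  rw [← conj_pow]

/-- In a constrained `S₄`-free group `C(Z(S))` and `N(J_e(S))` generate. -/
theorem sup_eq_top_of_sFourFree (hfree : ¬ Cfsg.Involves (Equiv.Perm (Fin 4)) G)
    (hC : centralizer (Cfsg.pCore 2 G : Set G) ≤ Cfsg.pCore 2 G) (S : Sylow 2 G) :
    centralizer (((S : Subgroup G) ⊓ centralizer ((S : Subgroup G) : Set G) : Subgroup G) : Set G) ⊔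
      normalizer ((Cfsg.thompsonSubgroupOf 2 (S : Subgroup G) : Subgroup G) : Set G) = ⊤ := by
  classical
  set Z := (S : Subgroup G) ⊓ centralizer ((S : Subgroup G) : Set G) with hZ
  set J := Cfsg.thompsonSubgroupOf 2 (S : Subgroup G) with hJ
  set Gen := centralizer (Z : Set G) ⊔ normalizer (J : Set G) with hGen
  set Q := Cfsg.pCore 2 G with hQ
  have hQS : Q ≤ (S : Subgroup G) := PCore.pCore_le_sylow S
  set A₀ := Q ⊓ centralizer (Q : Set G) with hA₀
  haveI : A₀.Normal := by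
    haveI : Q.Normal := PCore.pCore_normal
    infer_instance
  have hA₀c : IsMulCommutative A₀ := PGroup.isMulCommutative_of_forall fun a ha b hb =>
    (mem_centralizer_iff.1 ha.2 b hb.1).symm
  have hZA : Z ≤ A₀ := fun z hz =>
    have hzC : z ∈ centralizer (Q : Set G) := centralizer_le hQS hz.2
    ⟨hC hzC, hzC⟩
  suffices key : ∀ n, ∀ H : Subgroup G, (S : Subgroup G) ≤ H → Nat.card H = n → H ≤ Gen by
    exact top_le_iff.1 (key _ ⊤ le_top rfl)
  intro n
  induction n using Nat.strong_induction_on with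
  | _ n IH =>
  intro H hSH hn
  have hlow : ∀ K : Subgroup G, (S : Subgroup G) ≤ K → K ≤ H → K ≠ H → K ≤ Gen := by
    intro K hSK hKH hne
    refine IH _ ?_ K hSK rfl
    rw [← hn]
    by_contra hge
    exact hne (eq_of_le_of_card_ge hKH (not_lt.1 hge))
  by_cases hHS : H = (S : Subgroup G)
  · exact hHS.le.trans (le_trans (fun s hs => mem_centralizer_iff.2 fun z hz =>
      (mem_centralizer_iff.1 hz.2 s hs).symm) le_sup_left)
  set M := sSup {K : Subgroup G | (S : Subgroup G) ≤ K ∧ K ≤ H ∧ K ≠ H} with hM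
  have hMH : M ≤ H := sSup_le fun K hK => hK.2.1
  have hMGen : M ≤ Gen := sSup_le fun K hK => hlow K hK.1 hK.2.1 hK.2.2
  have hSM : (S : Subgroup G) ≤ M := le_sSup ⟨le_rfl, hSH, fun he => hHS he.symm⟩
  have huniq : ∀ K : Subgroup G, (S : Subgroup G) ≤ K → K ≤ H → K ≠ H → K ≤ M := fun K h1 h2 h3 =>
    le_sSup ⟨h1, h2, h3⟩
  by_cases hMtop : M = H
  · exact hMtop ▸ hMGen
  set Z₁ := Cfsg.omegaOne 2 Z with hZ₁
  have hZ₁Z : Z₁ ≤ Z := PGroup.omegaOne_le Z
  by_cases hC1 : centralizer (Z₁ : Set G) ⊓ H ≤ M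
  swap
  · have hSC : (S : Subgroup G) ≤ centralizer (Z₁ : Set G) := fun s hs => mem_centralizer_iff.2
      fun z hz => (mem_centralizer_iff.1 (hZ₁Z hz).2 s hs).symm
    have heq : centralizer (Z₁ : Set G) ⊓ H = H := by
      by_contra hne
      exact hC1 (huniq _ (le_inf hSC hSH) inf_le_right hne)
    exact (le_centralizer_center_of_omega S hA₀c hSH hZA (inf_le_left.trans hQS)
      (inf_eq_right.1 heq)).trans le_sup_left
  -- the module inside `H`
  have hQH : Q ≤ H := hQS.trans hSH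
  have hA₀H : A₀ ≤ H := inf_le_left.trans hQH
  set V := normalClosure ((Z₁.subgroupOf H : Subgroup ↥H) : Set ↥H) with hV
  set W := Cfsg.omegaOne 2 A₀ with hW
  have hWel : Cfsg.IsElementaryAbelian 2 W := PGroup.isElementaryAbelian_omegaOne hA₀c
  haveI hWn : W.Normal := by
    refine ⟨fun w hw g => ?_⟩
    have hle : W ≤ W.comap (MulAut.conj g).toMonoidHom := (PGroup.omegaOne_le_iff).2 fun x hx hx2 =>
      subset_closure ⟨Normal.conj_mem inferInstance x hx g, by
        show (g * x * g⁻¹) ^ 2 = 1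
        rw [conj_pow, hx2, mul_one, mul_inv_cancel]⟩
    exact hle hw
  have hZ₁W : Z₁ ≤ W := (PGroup.omegaOne_le_iff).2 fun x hx hx2 => subset_closure ⟨hZA hx, hx2⟩
  haveI : (W.subgroupOf H).Normal := Normal.subgroupOf hWn H
  have hVW : V ≤ W.subgroupOf H := normalClosure_le_normal fun x hx => hZ₁W hx
  set SH := S.subtype hSH with hSHdef
  have hmemSH : ∀ x : ↥H, x ∈ (SH : Subgroup ↥H) ↔ (x : G) ∈ (S : Subgroup G) := fun x => Iff.rfl
  have hVel : Cfsg.IsElementaryAbelian 2 V :=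
    PGroup.isElementaryAbelian_mono (PGroup.isElementaryAbelian_comap hWel H.subtype_injective) hVW
  have hZV : V ⊓ centralizer ((SH : Subgroup ↥H) : Set ↥H) = Z₁.subgroupOf H := by
    refine le_antisymm (fun x hx => ?_) (le_inf subset_normalClosure fun x hx => ?_)
    · have hxA : (x : G) ∈ A₀ := PGroup.omegaOne_le A₀ (mem_subgroupOf.1 (hVW hx.1))
      have hxC : (x : G) ∈ centralizer ((S : Subgroup G) : Set G) := mem_centralizer_iff.2 fun s hs =>
        congrArg Subtype.val (hx.2 ⟨s, hSH hs⟩ ((hmemSH _).2 hs))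
      have hx2 : (x : G) ^ 2 = 1 := hWel.2 _ (mem_subgroupOf.1 (hVW hx.1))
      exact mem_subgroupOf.2 (PGroup.mem_omegaOne_of_pow_eq_one ⟨hQS hxA.1, hxC⟩ hx2)
    · exact mem_centralizer_iff.2 fun s hs => Subtype.ext
        (mem_centralizer_iff.1 (hZ₁Z (mem_subgroupOf.1 hx)).2 (s : G) ((hmemSH _).1 hs))
  have hfreeH : ¬ Cfsg.Involves (Equiv.Perm (Fin 4)) ↥H := fun hi =>
    hfree (ConjFun.involves_trans hi (ConjFun.involves_subgroup H))
  haveI : V.Normal := normalClosure_normal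
  have hcent : centralizer ((Z₁.subgroupOf H : Subgroup ↥H) : Set ↥H) ≤ M.subgroupOf H := fun x hx =>
    mem_subgroupOf.2 (hC1 ⟨mem_centralizer_iff.2 fun z hz => congrArg Subtype.val
      (mem_centralizer_iff.1 hx ⟨z, hSH (hZ₁Z hz).1⟩ hz), x.2⟩)
  have hset : Setup SH (M.subgroupOf H) V := by
    refine ⟨fun he => hMtop (le_antisymm hMH (subgroupOf_eq_top.1 he)), fun x hx =>
      mem_subgroupOf.2 (hSM ((hmemSH x).1 hx)), fun K hK hSK x hx => ?_, hVel, inferInstance, ?_, ?_,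
      noS3_of_sFourFree hfreeH (PGroup.isPGroup_of_elementaryAbelian hVel)⟩
    · refine mem_subgroupOf.2 (huniq (K.map H.subtype) ?_ (map_subtype_le K) (fun he => hK ?_)
        ⟨x, hx, rfl⟩)
      · exact fun s hs => ⟨⟨s, hSH hs⟩, hSK ((hmemSH _).2 hs), rfl⟩
      · rw [← comap_map_eq_self_of_injective H.subtype_injective K, he]
        exact subgroupOf_self H
    · rw [hZV]
    · rw [hZV]
      exact hcent
  set K := centralizer (V : Set ↥H) with hKdef
  haveI : K.Normal := inferInstance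
  have hKM : K ≤ M.subgroupOf H := (centralizer_le subset_normalClosure).trans hcent
  obtain ⟨A₁, hA₁, hA₁S⟩ := Offender.exists_max_le_sylow SH
  have hJK : Cfsg.thompsonSubgroupOf 2 (SH : Subgroup ↥H) ≤ K := by
    rw [Offender.thompsonSubgroupOf_eq hA₁ hA₁S]
    refine sSup_le fun A hA => ?_
    by_contra hne
    exact hset.no_ff A ⟨hA.1.1, hne, (Offender.isBestOffenderOn_of_max hVel hA.1).1⟩
  have hfr := Offender.sup_normalizer_thompson_eq_top SH K hJK
  have hmapJ : (Cfsg.thompsonSubgroupOf 2 (SH : Subgroup ↥H)).map H.subtype = J := by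
    rw [hJ, ← Replacement.thompsonSubgroupOf_map_injOn (f := H.subtype) fun x _ hx =>
      H.subtype_injective (hx.trans (map_one _).symm)]
    congr 1
    exact map_subgroupOf_eq_of_le hSH
  have hSN : (S : Subgroup G) ≤ normalizer (J : Set G) :=
    le_normalizer.trans (Offender.normalizer_le_normalizer_thompsonSubgroupOf _)
  by_cases hNH : normalizer (J : Set G) ⊓ H = H
  · exact (inf_eq_right.1 hNH).trans le_sup_right
  · have hNM := huniq _ (le_inf hSN hSH) inf_le_right hNH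
    refine absurd (le_antisymm hMH fun x hx => mem_subgroupOf.1 ((?_ : (⊤ : Subgroup ↥H) ≤
      M.subgroupOf H) (mem_top (⟨x, hx⟩ : ↥H)))) hMtop
    rw [← hfr]
    refine sup_le hKM fun y hy => mem_subgroupOf.2 (hNM ⟨?_, y.2⟩)
    rw [← hmapJ]
    exact le_normalizer_map H.subtype ⟨y, hy, rfl⟩

end Cfsg.Agent.SFourFree
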