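import Cfsg.Agent.Lib.Offender.Replacement
import Cfsg.Agent.Lib.Offender.Factorization

/-!
# Offenders on a module in groups without natural `S₃` sections: basics

* `NoS3 V`: no subgroup maps onto `S₃` with `C(V)` in the kernel;
* `FF V A`: elementary abelian 2-subgroup, best offender, nontrivial on `V`;
* `FF.conj`, `FF.subgroupOf`, `FF.map_of_best`, `exists_reduced` (minimal order: faithful, quadratic, strict);
* `not_noS3`: two involutions `a`, `b` with `[v,b] = u`, `[u,a] = v` give `S₃`.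
-/

set_option autoImplicit false

namespace Cfsg.Agent.SFourFree

open Subgroup
open scoped commutatorElement

universe u

variable {G : Type u} [Group G]

/-- No subgroup maps onto `S₃` with the elements centralizing `V` in the kernel. -/
def NoS3 (V : Subgroup G) : Prop :=
  ∀ (K : Subgroup G) (φ : ↥K →* Equiv.Perm (Fin 3)),
    (∀ x : ↥K, (x : G) ∈ centralizer (V : Set G) → φ x = 1) → ¬ Function.Surjective φ

/-- An elementary abelian best offender that moves `V`. -/
structure FF (V A : Subgroup G) : Prop where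
  el : Cfsg.IsElementaryAbelian 2 A
  moves : ¬ A ≤ centralizer (V : Set G)
  best : ∀ B ≤ A, Nat.card B * Nat.card ↥(V ⊓ centralizer (B : Set G)) ≤
    Nat.card A * Nat.card ↥(V ⊓ centralizer (A : Set G))

theorem FF.isPGroup {V A : Subgroup G} (h : FF V A) : IsPGroup 2 A :=
  PGroup.isPGroup_of_elementaryAbelian h.el

theorem FF.commute {V A : Subgroup G} (h : FF V A) {a b : G} (ha : a ∈ A) (hb : b ∈ A) :
    a * b = b * a :=
  PGroup.mul_comm_of_isMulCommutative h.el.1 ha hb

theorem FF.inv_eq {V A : Subgroup G} (h : FF V A) {a : G} (ha : a ∈ A) : a⁻¹ = a := by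
  have h2 := h.el.2 a ha
  rw [pow_two] at h2
  exact inv_eq_of_mul_eq_one_right h2

theorem FF.isBest {V A : Subgroup G} (h : FF V A) : Cfsg.IsBestOffenderOn 2 V A := by
  refine ⟨h.best, ?_, fun a ha => ?_⟩
  · refine commutator_le.2 fun a ha b hb => ?_
    rw [commutatorElement_eq_one_iff_mul_comm.2 (h.commute ha hb)]
    exact one_mem _
  · rw [h.el.2 a ha]
    exact one_mem _

/-- Transport along an injective endomorphism image: `e` preserves fixed points. -/
theorem map_inf_centralizer {H : Type u} [Group H] (e : G ≃* H) (V B : Subgroup G) :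
    (V ⊓ centralizer (B : Set G)).map e.toMonoidHom =
      V.map e.toMonoidHom ⊓ centralizer (B.map e.toMonoidHom : Set H) := by
  ext x
  rw [mem_inf, mem_map_equiv, mem_map_equiv, mem_inf, mem_centralizer_iff, mem_centralizer_iff]
  refine and_congr_right fun _ => ⟨?_, ?_⟩
  · rintro hc _ ⟨b, hb, rfl⟩
    apply e.symm.injective
    simpa using hc b hb
  · intro hc b hb
    apply e.injective
    simpa using hc (e b) ⟨b, hb, rfl⟩

theorem FF.map_equiv {H : Type u} [Group H] (e : G ≃* H) {V A : Subgroup G} (h : FF V A) :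
    FF (V.map e.toMonoidHom) (A.map e.toMonoidHom) := by
  refine ⟨PGroup.isElementaryAbelian_map h.el _, fun hle => h.moves fun a ha => ?_, fun B hB => ?_⟩
  · refine mem_centralizer_iff.2 fun v hv => e.injective ?_
    rw [map_mul, map_mul]
    exact mem_centralizer_iff.1 (hle ⟨a, ha, rfl⟩) _ ⟨v, hv, rfl⟩
  · obtain ⟨B₀, rfl⟩ : ∃ B₀, B₀.map e.toMonoidHom = B :=
      ⟨B.comap e.toMonoidHom, map_comap_eq_self_of_surjective e.surjective B⟩
    rw [map_le_map_iff_of_injective e.injective] at hB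
    have := h.best B₀ hB
    rw [← map_inf_centralizer, ← map_inf_centralizer]
    rw [card_map_of_injective e.injective, card_map_of_injective e.injective,
      card_map_of_injective e.injective, card_map_of_injective e.injective]
    exact this

theorem map_conj_eq_self {V : Subgroup G} [V.Normal] (g : G) :
    V.map (MulAut.conj g).toMonoidHom = V :=
  mem_normalizer_iff_map_conj_eq.1 (by rw [normalizer_eq_top]; exact mem_top g)

theorem FF.conj {V A : Subgroup G} [V.Normal] (h : FF V A) (g : G) :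
    FF V (A.map (MulAut.conj g).toMonoidHom) := by
  have := h.map_equiv (MulAut.conj g)
  rwa [map_conj_eq_self g] at this

/-- An offender that moves an invariant `W ≤ V` is an offender on `W`. -/
theorem FF.subgroupOf [Finite G] {V A W L : Subgroup G} (h : FF V A)
    (hV : Cfsg.IsElementaryAbelian 2 V) (hAL : A ≤ L) (hWV : W ≤ V) (hWL : W ≤ L)
    (hm : ¬ A ≤ centralizer (W : Set G)) : FF (W.subgroupOf L) (A.subgroupOf L) := by
  have hmap : ∀ B : Subgroup ↥L,
      (W.subgroupOf L ⊓ centralizer (B : Set ↥L)).map L.subtype =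
        W ⊓ centralizer (B.map L.subtype : Set G) := by
    intro B
    ext x
    constructor
    · rintro ⟨w, ⟨hw, hc⟩, rfl⟩
      refine ⟨hw, ?_⟩
      rintro _ ⟨b, hb, rfl⟩
      exact congrArg Subtype.val (hc b hb)
    · rintro ⟨hw, hc⟩
      exact ⟨⟨x, hWL hw⟩, ⟨hw, fun b hb => Subtype.ext (hc b ⟨b, hb, rfl⟩)⟩, rfl⟩
  refine ⟨PGroup.isElementaryAbelian_comap h.el L.subtype_injective, fun hle => hm fun a ha => ?_,
    fun B hB => ?_⟩
  · exact mem_centralizer_iff.2 fun w hw =>
      congrArg Subtype.val (mem_centralizer_iff.1 (hle (show (⟨a, hAL ha⟩ : ↥L) ∈ A.subgroupOf L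
        from ha)) ⟨w, hWL hw⟩ hw)
  · have e : ∀ C : Subgroup ↥L, Nat.card C * Nat.card ↥(W.subgroupOf L ⊓ centralizer (C : Set ↥L)) =
        Nat.card (C.map L.subtype) * Nat.card ↥(W ⊓ centralizer (C.map L.subtype : Set G)) := by
      intro C
      rw [← hmap, card_map_of_injective L.subtype_injective, card_map_of_injective L.subtype_injective]
    rw [e, e, map_subgroupOf_eq_of_le hAL]
    set B' := B.map L.subtype
    have hB' : B' ≤ A := (map_mono hB).trans_eq (map_subgroupOf_eq_of_le hAL)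
    have hb := h.best B' hB'
    set XA := V ⊓ centralizer (A : Set G)
    set WB := W ⊓ centralizer (B' : Set G)
    have hn : WB ≤ normalizer (XA : Set G) := fun x hx => centralizer_le_normalizer _ fun y hy =>
      PGroup.mul_comm_of_isMulCommutative hV.1 hy.1 (hWV hx.1)
    have hcard := Offender.card_sup_mul_card_inf hn
    have hinf : WB ⊓ XA = W ⊓ centralizer (A : Set G) :=
      le_antisymm (le_inf (inf_le_left.trans inf_le_left) (inf_le_right.trans inf_le_right))
        (le_inf (inf_le_inf_left _ (centralizer_le hB')) (inf_le_inf_right _ hWV))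
    have hsup : WB ⊔ XA ≤ V ⊓ centralizer (B' : Set G) :=
      sup_le (inf_le_inf_right _ hWV) (inf_le_inf_left _ (centralizer_le hB'))
    rw [hinf] at hcard
    have hle := card_le_of_le hsup
    refine Nat.le_of_mul_le_mul_right ?_ (Nat.card_pos : 0 < Nat.card XA)
    calc Nat.card B' * Nat.card WB * Nat.card XA
        = Nat.card B' * (Nat.card ↥(WB ⊔ XA) * Nat.card ↥(W ⊓ centralizer (A : Set G))) := by
          rw [hcard]; ring
      _ ≤ Nat.card B' * (Nat.card ↥(V ⊓ centralizer (B' : Set G)) *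
            Nat.card ↥(W ⊓ centralizer (A : Set G))) :=
          Nat.mul_le_mul_left _ (Nat.mul_le_mul_right _ hle)
      _ = (Nat.card B' * Nat.card ↥(V ⊓ centralizer (B' : Set G))) *
            Nat.card ↥(W ⊓ centralizer (A : Set G)) := by ring
      _ ≤ (Nat.card A * Nat.card XA) * Nat.card ↥(W ⊓ centralizer (A : Set G)) :=
          Nat.mul_le_mul_right _ hb
      _ = _ := by ring

/-- A subgroup maximizing `|B| |C_V(B)|` inside an elementary abelian `A` meeting the kernel trivially. -/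
theorem exists_ff_le [Finite G] {V A : Subgroup G} (hA : Cfsg.IsElementaryAbelian 2 A)
    (hne : A ≠ ⊥) (hker : A ⊓ centralizer (V : Set G) = ⊥)
    (hoff : Nat.card V ≤ Nat.card A * Nat.card ↥(V ⊓ centralizer (A : Set G))) :
    ∃ B ≤ A, FF V B := by
  obtain ⟨B, hBA, hBmax⟩ := Set.exists_max_image {B : Subgroup G | B ≤ A}
    (fun B => Nat.card B * Nat.card ↥(V ⊓ centralizer (B : Set G))) (Set.toFinite _) ⟨A, (le_refl A :)⟩
  have hbot : Nat.card (⊥ : Subgroup G) * Nat.card ↥(V ⊓ centralizer ((⊥ : Subgroup G) : Set G)) =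
      Nat.card V := by
    rw [card_bot, one_mul, show centralizer ((⊥ : Subgroup G) : Set G) = ⊤ from
      eq_top_iff.2 fun x _ y hy => by rw [mem_bot.1 hy, one_mul, mul_one], inf_top_eq]
  by_cases hB : B = ⊥
  · refine ⟨A, le_rfl, hA, fun hle => hne ?_, fun C hC => ?_⟩
    · rw [← hker, inf_eq_left.2 hle]
    · subst hB
      exact (hBmax C hC).trans (hbot.le.trans hoff)
  · refine ⟨B, hBA, PGroup.isElementaryAbelian_mono hA hBA, fun hle => hB ?_, fun C hC =>
      hBmax C (hC.trans hBA)⟩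
    exact le_bot_iff.1 (hker ▸ le_inf hBA hle)

/-- An offender of least order: faithful, quadratic, and strict on proper subgroups. -/
theorem exists_reduced [Finite G] {V A₀ : Subgroup G} [V.Normal]
    (hV : Cfsg.IsElementaryAbelian 2 V) (h₀ : FF V A₀) :
    ∃ A, FF V A ∧ A ⊓ centralizer (V : Set G) = ⊥ ∧ ⁅V, A⁆ ≤ centralizer (A : Set G) ∧
      (∀ B ≤ A, B ≠ ⊥ → B ≠ A → Nat.card B * Nat.card ↥(V ⊓ centralizer (B : Set G)) <
        Nat.card A * Nat.card ↥(V ⊓ centralizer (A : Set G))) := by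
  obtain ⟨A, hA, hmin⟩ := Set.exists_min_image {A : Subgroup G | FF V A}
    (fun A => Nat.card A) (Set.toFinite _) ⟨A₀, h₀⟩
  have hsub : ∀ B ≤ A, FF V B → B = A := fun B hB hBF => eq_of_le_of_card_ge hB (hmin B hBF)
  have hker : A ⊓ centralizer (V : Set G) = ⊥ := by
    by_contra hne
    obtain ⟨⟨k, hk⟩, hk1⟩ := exists_ne_one_of_ne_bot' hne
    obtain ⟨A₁, ⟨hA₁, hkA₁⟩, hmax⟩ := Set.exists_max_image {B : Subgroup G | B ≤ A ∧ k ∉ B}
      (fun B => Nat.card B) (Set.toFinite _) ⟨⊥, bot_le, fun h => hk1 (mem_bot.1 h)⟩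
    have hkk : ∀ x ∈ zpowers k, x = 1 ∨ x = k := by
      intro x hx
      obtain ⟨i, rfl⟩ := hx
      have h2 : k ^ (2 : ℤ) = 1 := by
        rw [show (2 : ℤ) = ((2 : ℕ) : ℤ) from rfl, zpow_natCast]
        exact hA.el.2 k hk.1
      rcases Int.even_or_odd i with ⟨j, rfl⟩ | ⟨j, rfl⟩
      · left
        show k ^ (j + j) = 1
        rw [← two_mul, zpow_mul, h2, one_zpow]
      · right
        show k ^ (2 * j + 1) = k
        rw [zpow_add, zpow_mul, h2, one_zpow, one_mul, zpow_one]
    have hn : ∀ B C : Subgroup G, B ≤ A → C ≤ A → B ≤ normalizer (C : Set G) := fun B C hB hC x hx =>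
      centralizer_le_normalizer _ fun y hy => hA.commute (hC hy) (hB hx)
    have hk' : zpowers k ≤ A := zpowers_le.2 hk.1
    have hsup : A₁ ⊔ zpowers k = A := by
      refine le_antisymm (sup_le hA₁ hk') fun a ha => ?_
      by_contra hna
      have hlt : A₁ < A₁ ⊔ zpowers a := lt_of_le_of_ne le_sup_left fun he =>
        hna (mem_sup_left (he ▸ mem_sup_right (mem_zpowers a)))
      have hkm : k ∈ A₁ ⊔ zpowers a := by
        by_contra hkn
        exact absurd (hmax _ ⟨sup_le hA₁ (zpowers_le.2 ha), hkn⟩) (not_le.2 (Set.ncard_lt_ncard hlt))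
      obtain ⟨x, hx, y, hy, hxy⟩ := (Coprime.mem_sup_iff_of_le_normalizer
        (hn _ _ hA₁ (zpowers_le.2 ha))).1 hkm
      obtain ⟨i, rfl⟩ := hy
      have h2 : a ^ (2 : ℤ) = 1 := by
        rw [show (2 : ℤ) = ((2 : ℕ) : ℤ) from rfl, zpow_natCast]
        exact hA.el.2 a ha
      rcases Int.even_or_odd i with ⟨j, rfl⟩ | ⟨j, rfl⟩
      · apply hkA₁
        rw [← hxy]
        show x * a ^ (j + j) ∈ A₁
        rwa [← two_mul, zpow_mul, h2, one_zpow, mul_one]
      · apply hna
        have e : x * a = k := by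
          rw [← hxy]
          show x * a = x * a ^ (2 * j + 1)
          rw [zpow_add, zpow_mul, h2, one_zpow, one_mul, zpow_one]
        rw [show a = x⁻¹ * k by rw [← e, inv_mul_cancel_left]]
        exact mul_mem (mem_sup_left (inv_mem hx)) (mem_sup_right (mem_zpowers k))
    have hinf : ∀ B ≤ A₁, B ⊓ zpowers k = ⊥ := fun B hB => eq_bot_iff.2 fun x hx => by
      rcases hkk x hx.2 with rfl | rfl
      · exact mem_bot.2 rfl
      · exact absurd (hB hx.1) hkA₁
    have hcent : ∀ B : Subgroup G, V ⊓ centralizer ((B ⊔ zpowers k : Subgroup G) : Set G) =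
        V ⊓ centralizer (B : Set G) := fun B => by
      rw [Offender.centralizer_sup_eq]
      refine le_antisymm (inf_le_inf_left _ inf_le_left) (le_inf inf_le_left (le_inf inf_le_right ?_))
      refine inf_le_left.trans ?_
      rw [le_centralizer_iff, zpowers_le]
      exact hk.2
    have hF : FF V A₁ := by
      refine ⟨PGroup.isElementaryAbelian_mono hA.el hA₁, fun hle => hA.moves ?_, fun B hB => ?_⟩
      · rw [← hsup]
        exact sup_le hle (zpowers_le.2 hk.2)
      · have h1 := hA.best (B ⊔ zpowers k) (sup_le (hB.trans hA₁) hk')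
        have e1 := Offender.card_sup_mul_card_inf (hn B _ (hB.trans hA₁) hk')
        have e2 := Offender.card_sup_mul_card_inf (hn A₁ _ hA₁ hk')
        rw [hinf B hB, card_bot, mul_one] at e1
        rw [hinf A₁ le_rfl, card_bot, mul_one, hsup] at e2
        rw [hcent, e1, ← hsup, hcent, hsup, e2] at h1
        refine Nat.le_of_mul_le_mul_right ?_ (Nat.card_pos : 0 < Nat.card (zpowers k))
        nlinarith
    exact hkA₁ (hsub A₁ hA₁ hF ▸ hk.1)
  refine ⟨A, hA, hker, ?_, fun B hB hB1 hBA => lt_of_le_of_ne (hA.best B hB) fun he => hBA ?_⟩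
  · have hAV : A ≤ normalizer (V : Set G) := by rw [normalizer_eq_top]; exact le_top
    have hne : ⁅V, A⁆ ≠ ⊥ := fun h => hA.moves (by
      rw [le_centralizer_iff]; exact commutator_eq_bot_iff_le_centralizer.1 h)
    set A' := A ⊓ centralizer ((⁅V, A⁆ : Subgroup G) : Set G)
    have hF : FF V A' := ⟨PGroup.isElementaryAbelian_mono hA.el inf_le_left,
      fun hle => Offender.commutator_ne_bot_of_replacement hV hAV hA.isBest le_rfl hne
        (commutator_eq_bot_iff_le_centralizer.2 (le_centralizer_iff.1 hle)),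
      (Offender.isBestOffenderOn_replacement hV hAV hA.isBest le_rfl).1⟩
    have := hsub A' inf_le_left hF
    rw [le_centralizer_iff]
    exact inf_eq_left.1 this
  · refine hsub B hB ⟨PGroup.isElementaryAbelian_mono hA.el hB, fun hle => hB1 ?_, fun C hC => ?_⟩
    · exact le_bot_iff.1 (hker ▸ le_inf hB hle)
    · exact (hA.best C (hC.trans hB)).trans_eq he.symm
where
  exists_ne_one_of_ne_bot' {G : Type u} [Group G] {H : Subgroup G} (h : H ≠ ⊥) :
      ∃ x : {x // x ∈ H}, (x : G) ≠ 1 := by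
    obtain ⟨x, hx, hx1⟩ := H.bot_or_exists_ne_one.resolve_left h
    exact ⟨⟨x, hx⟩, hx1⟩

/-- Two involutory actions of transvection type on a four-group give `S₃`. -/
theorem not_noS3 {V : Subgroup G} {a b u v : G} (hu : u ∈ V) (hv : v ∈ V)
    (hau : a * u * a⁻¹ = u * v) (hav : a * v * a⁻¹ = v) (hbu : b * u * b⁻¹ = u)
    (hbv : b * v * b⁻¹ = u * v) (ha2 : a * (u * v) * a⁻¹ = u) (hb2 : b * (u * v) * b⁻¹ = v)
    (hu1 : u ≠ 1) (hv1 : v ≠ 1) (huv : u ≠ v) : ¬ NoS3 V := by
  intro hS
  classical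
  let s : Set G := {v, u, u * v}
  have h01 : v ≠ u := huv.symm
  have h02 : v ≠ u * v := fun h => hu1 (by simpa using h.symm)
  have h12 : u ≠ u * v := fun h => hv1 (by simpa using h.symm)
  let f : Fin 3 → ↥s := ![⟨v, by simp [s]⟩, ⟨u, by simp [s]⟩, ⟨u * v, by simp [s]⟩]
  have hf : Function.Bijective f := by
    refine ⟨fun i j h => ?_, ?_⟩
    · have := congrArg Subtype.val h
      fin_cases i <;> fin_cases j <;> simp_all [f]
    · rintro ⟨x, hx⟩
      simp only [s, Set.mem_insert_iff, Set.mem_singleton_iff] at hx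
      rcases hx with rfl | rfl | rfl
      exacts [⟨0, rfl⟩, ⟨1, rfl⟩, ⟨2, rfl⟩]
  let e : Fin 3 ≃ ↥s := Equiv.ofBijective f hf
  let K : Subgroup G :=
    { carrier := {g | ∀ x, x ∈ s ↔ g * x * g⁻¹ ∈ s}
      one_mem' := fun x => by simp
      mul_mem' := fun {g h} hg hh x => by
        rw [hh x, hg (h * x * h⁻¹)]
        simp [mul_assoc]
      inv_mem' := fun {g} hg x => by
        rw [hg (g⁻¹ * x * g⁻¹⁻¹)]
        simp [mul_assoc] }
  let act : ↥K →* Equiv.Perm ↥s :=
    MonoidHom.mk' (fun g => (MulAut.conj (g : G)).toEquiv.subtypeEquiv g.2) fun g h =>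
      Equiv.ext fun x => Subtype.ext (by simp [Equiv.subtypeEquiv, mul_assoc])
  let φ : ↥K →* Equiv.Perm (Fin 3) := (e.symm.permCongrHom).toMonoidHom.comp act
  have hφ : ∀ (g : ↥K) (i j : Fin 3), (g : G) * (f i).1 * (g : G)⁻¹ = (f j).1 → φ g i = j := by
    intro g i j h
    show e.symm (act g (e i)) = j
    rw [Equiv.symm_apply_eq]
    exact Subtype.ext h
  refine hS K φ (fun x hx => Equiv.ext fun i => hφ x i i ?_) ?_
  · have hm : (f i).1 ∈ V := by fin_cases i <;> simp [f, hu, hv, mul_mem hu hv]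
    rw [mul_inv_eq_iff_eq_mul]
    exact (hx _ hm).symm
  · have mk : ∀ g : G, (∀ x ∈ s, g * x * g⁻¹ ∈ s) → g ∈ K := by
      intro g hg x
      refine ⟨hg x, fun hx => ?_⟩
      have hbij : Function.Bijective (fun y : ↥s => (⟨g * y.1 * g⁻¹, hg _ y.2⟩ : ↥s)) := by
        have : Finite ↥s := Finite.of_equiv _ e
        exact Finite.injective_iff_bijective.1 fun y z hyz => Subtype.ext (by
          simpa using congrArg Subtype.val hyz)
      obtain ⟨⟨y, hy⟩, hyx⟩ := hbij.2 ⟨g * x * g⁻¹, hx⟩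
      have : y = x := by simpa using congrArg Subtype.val hyx
      exact this ▸ hy
    have haK : a ∈ K := mk a (by
      rintro x (rfl | rfl | rfl) <;> simp [s, hau, hav, ha2])
    have hbK : b ∈ K := mk b (by
      rintro x (rfl | rfl | rfl) <;> simp [s, hbu, hbv, hb2])
    have h3 : ∀ π σ τ : Equiv.Perm (Fin 3), σ 0 = 0 → σ 1 = 2 → τ 0 = 2 → τ 1 = 1 →
        π = 1 ∨ π = σ ∨ π = τ ∨ π = σ * τ ∨ π = τ * σ ∨ π = σ * τ * σ := by decide
    intro π
    rcases h3 π (φ ⟨a, haK⟩) (φ ⟨b, hbK⟩) (hφ _ 0 0 hav) (hφ _ 1 2 hau) (hφ _ 0 2 hbv)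
      (hφ _ 1 1 hbu) with h | h | h | h | h | h
    · exact ⟨1, by rw [map_one, h]⟩
    · exact ⟨_, h.symm⟩
    · exact ⟨_, h.symm⟩
    · exact ⟨⟨a, haK⟩ * ⟨b, hbK⟩, by rw [map_mul, h]⟩
    · exact ⟨⟨b, hbK⟩ * ⟨a, haK⟩, by rw [map_mul, h]⟩
    · exact ⟨⟨a, haK⟩ * ⟨b, hbK⟩ * ⟨a, haK⟩, by rw [map_mul, map_mul, h]⟩

end Cfsg.Agent.SFourFree
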