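import Cfsg.Agent.Lib.SFourFree.Basic
import Cfsg.Agent.Lib.ConjFun.Basic

/-!
# `P`-minimal groups: offenders lie in a unique maximal subgroup

`Setup T M V`: `M` is the only maximal subgroup over `T`, `V = ⟨Z^G⟩` for `Z = C_V(T)`, `C(Z) ≤ M`.
* `Setup.le_of_le_normal`: no nontrivial normal 2-subgroup of `G / C(V)`;
* `Setup.le_of_mem`: assuming the theorem for smaller groups, a proper subgroup containing `V` and an
  offender of `M` lies in `M`.
-/

set_option autoImplicit false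
set_option linter.style.haveILetI false

namespace Cfsg.Agent.SFourFree

open Subgroup

universe u

variable {G : Type u} [Group G] [Finite G]

/-- A `2`-minimal group acting on `V = ⟨C_V(T)^G⟩`. -/
structure Setup (T : Sylow 2 G) (M V : Subgroup G) : Prop where
  ne_top : M ≠ ⊤
  le : (T : Subgroup G) ≤ M
  uniq : ∀ H : Subgroup G, H ≠ ⊤ → (T : Subgroup G) ≤ H → H ≤ M
  elem : Cfsg.IsElementaryAbelian 2 V
  normal : V.Normal
  gen : Subgroup.normalClosure ((V ⊓ centralizer ((T : Subgroup G) : Set G) : Subgroup G) : Set G) = V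
  cent : centralizer ((V ⊓ centralizer ((T : Subgroup G) : Set G) : Subgroup G) : Set G) ≤ M
  noS3 : NoS3 V

/-- The statement proved by induction on the order. -/
def NoFFBelow (n : ℕ) : Prop :=
  ∀ (L : Type u) [Group L] [Finite L] (T : Sylow 2 L) (M V : Subgroup L),
    Nat.card L < n → Setup T M V → ∀ A, ¬ FF V A

theorem exists_max_pGroup {H P : Subgroup G} (hP : IsPGroup 2 P) (hPH : P ≤ H) :
    ∃ S : Sylow 2 ↥H, P ≤ (S : Subgroup ↥H).map H.subtype := by
  obtain ⟨S, hS⟩ := (hP.comap_subtype (K := H)).exists_le_sylow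
  exact ⟨S, fun x hx => ⟨⟨x, hPH hx⟩, hS hx, rfl⟩⟩

namespace Setup

variable {T : Sylow 2 G} {M V : Subgroup G} (h : Setup T M V)
include h

theorem le_sylow (T' : Sylow 2 G) : V ≤ (T' : Subgroup G) := by
  haveI := h.normal
  exact (PGroup.isPGroup_of_elementaryAbelian h.elem).le_sylow_of_normal T'

theorem le_M : V ≤ M := (h.le_sylow T).trans h.le

theorem exists_sylow {R : Subgroup G} (hR : IsPGroup 2 R) (hRM : R ≤ M) :
    ∃ T' : Sylow 2 G, R ≤ (T' : Subgroup G) ∧ (T' : Subgroup G) ≤ M := by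
  obtain ⟨S, hS⟩ := exists_max_pGroup hR hRM
  obtain ⟨m, hm⟩ := MulAction.exists_smul_eq ↥M (T.subtype h.le) S
  refine ⟨(m : G) • T, hS.trans ?_, ?_⟩
  · rintro _ ⟨x, hx, rfl⟩
    rw [← hm, Sylow.coe_subgroup_smul] at hx
    obtain ⟨y, hy, rfl⟩ := hx
    exact ⟨(y : G), hy, rfl⟩
  · rintro _ ⟨y, hy, rfl⟩
    exact mul_mem (mul_mem m.2 (h.le hy)) (inv_mem m.2)

theorem congr {T' : Sylow 2 G} (hT' : (T' : Subgroup G) ≤ M) : Setup T' M V := by
  haveI := h.normal
  obtain ⟨m, hm⟩ := MulAction.exists_smul_eq ↥M (T.subtype h.le) (T'.subtype hT')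
  set c : G ≃* G := MulAut.conj (m : G)
  have hT : (T : Subgroup G).map c.toMonoidHom = T' := by
    refine le_antisymm ?_ fun x hx => ?_
    · rintro _ ⟨y, hy, rfl⟩
      have : m * (⟨y, h.le hy⟩ : ↥M) * m⁻¹ ∈ (T'.subtype hT' : Subgroup ↥M) := by
        rw [← hm]
        exact ⟨⟨y, h.le hy⟩, hy, rfl⟩
      exact this
    · have : (⟨x, hT' hx⟩ : ↥M) ∈ ((m • T.subtype h.le : Sylow 2 ↥M) : Subgroup ↥M) := by
        rw [hm]
        exact hx
      obtain ⟨y, hy, hyx⟩ := this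
      exact ⟨(y : G), hy, congrArg Subtype.val hyx⟩
  have hM : M.map c.toMonoidHom = M :=
    mem_normalizer_iff_map_conj_eq.1 (le_normalizer m.2)
  have hZ : (V ⊓ centralizer ((T : Subgroup G) : Set G)).map c.toMonoidHom =
      V ⊓ centralizer ((T' : Subgroup G) : Set G) := by
    rw [map_inf_centralizer, map_conj_eq_self, hT]
  refine ⟨h.ne_top, hT', fun H hH hTH => ?_, h.elem, h.normal, ?_, ?_, h.noS3⟩
  · have h1 : H.comap c.toMonoidHom ≤ M := h.uniq _ (fun he => hH (by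
      rw [← map_comap_eq_self_of_surjective (f := c.toMonoidHom) c.surjective H, he,
        map_top_of_surjective _ c.surjective]))
      (map_le_iff_le_comap.1 (hT.le.trans hTH))
    rw [← map_comap_eq_self_of_surjective (f := c.toMonoidHom) c.surjective H]
    exact (map_mono h1).trans hM.le
  · refine le_antisymm (normalClosure_le_normal fun x hx => hx.1) ?_
    refine h.gen.ge.trans (normalClosure_le_normal fun x hx => ?_)
    have h1 : c x ∈ normalClosure ((V ⊓ centralizer ((T' : Subgroup G) : Set G) : Subgroup G) : Set G) :=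
      subset_normalClosure (hZ.le ⟨x, hx, rfl⟩)
    have h2 := normalClosure_normal.conj_mem _ h1 (m : G)⁻¹
    have hcx : c x = m * x * (m : G)⁻¹ := rfl
    simpa [hcx, mul_assoc] using h2
  · intro x hx
    have h1 : c.symm x ∈ M := h.cent (mem_centralizer_iff.2 fun z hz => c.injective (by
      simpa using mem_centralizer_iff.1 hx (c z) (hZ.le ⟨z, hz, rfl⟩)))
    have := hM.le ⟨_, h1, rfl⟩
    simpa using this

/-- `G / C(V)` has no nontrivial normal 2-subgroup. -/
theorem le_of_le_normal (N : Subgroup G) [N.Normal]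
    (hN : ∀ n ∈ N, ∃ k : ℕ, n ^ 2 ^ k ∈ centralizer (V : Set G)) : N ≤ centralizer (V : Set G) := by
  haveI := h.normal
  set C := centralizer (V : Set G)
  obtain ⟨P, hP⟩ := Offender.exists_sylow_eq_inf T N
  set C' := C.subgroupOf N
  haveI : C'.Normal := Normal.subgroupOf inferInstance N
  have hq : IsPGroup 2 (↥N ⧸ C') := by
    intro q
    obtain ⟨n, rfl⟩ := QuotientGroup.mk'_surjective C' q
    obtain ⟨k, hk⟩ := hN n n.2
    exact ⟨k, (QuotientGroup.eq_one_iff _).2 hk⟩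
  obtain ⟨k, hk⟩ := IsPGroup.iff_card.1 hq
  have hsup : (P : Subgroup ↥N) ⊔ C' = ⊤ := by
    rw [← index_eq_one]
    refine Nat.eq_one_of_dvd_coprimes (k := ((P : Subgroup ↥N) ⊔ C').index)
      ((Nat.Prime.coprime_iff_not_dvd Nat.prime_two).2 P.not_dvd_index |>.pow_left k)
      ?_ (index_dvd_of_le le_sup_left)
    rw [← hk, ← Subgroup.index_eq_card]
    exact index_dvd_of_le le_sup_right
  rw [le_centralizer_iff]
  refine h.gen.ge.trans (normalClosure_le_normal fun z hz => ?_)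
  refine mem_centralizer_iff.2 fun n hn => ?_
  have hle : (P : Subgroup ↥N) ⊔ C' ≤ (centralizer ({z} : Set G)).subgroupOf N := by
    refine sup_le (fun x hx => mem_subgroupOf.2 (mem_centralizer_singleton_iff.2 ?_))
      (fun x hx => mem_subgroupOf.2 (mem_centralizer_singleton_iff.2 ?_))
    · exact mem_centralizer_iff.1 hz.2 (x : G) (hP.le ⟨x, hx, rfl⟩).1
    · exact (mem_centralizer_iff.1 hx z hz.1).symm
  exact mem_centralizer_singleton_iff.1 (hle (hsup ▸ mem_top (⟨n, hn⟩ : ↥N)))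

theorem normalizer_ne_top {R A : Subgroup G} (hR : IsPGroup 2 R) (hA : FF V A) (hAR : A ≤ R) :
    normalizer (R : Set G) ≠ ⊤ := fun he => by
  haveI : R.Normal := normalizer_eq_top_iff.1 he
  refine hA.moves (hAR.trans (h.le_of_le_normal R fun n hn => ?_))
  obtain ⟨k, hk⟩ := hR ⟨n, hn⟩
  exact ⟨k, by rw [show n ^ 2 ^ k = 1 from congrArg Subtype.val hk]; exact one_mem _⟩

/-- The engine: a proper subgroup outside `M` containing the 2-subgroup `R` yields a 2-subgroup of `M`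
with normalizer outside `M` that contains all offenders of `R`. -/
theorem step (IH : NoFFBelow.{u} (Nat.card G)) {R H : Subgroup G} (hR : IsPGroup 2 R)
    (hRM : R ≤ M) (hVR : V ≤ R) (hRH : R ≤ H) (hH : H ≠ ⊤) (hHM : ¬ H ≤ M) :
    ∃ S : Subgroup G, V ≤ S ∧ S ≤ M ∧ IsPGroup 2 S ∧ (∀ A, FF V A → A ≤ R → A ≤ S) ∧
      ¬ normalizer (S : Set G) ≤ M := by
  haveI := h.normal
  obtain ⟨L, ⟨hRL, hLH, hLM⟩, hmin⟩ := Set.exists_min_image
    {L : Subgroup G | R ≤ L ∧ L ≤ H ∧ ¬ L ≤ M} (fun L => Nat.card L) (Set.toFinite _)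
    ⟨H, hRH, le_rfl, hHM⟩
  obtain ⟨P₀, hP₀⟩ := exists_max_pGroup hR (le_inf hRL hRM)
  set S₀ := (P₀ : Subgroup ↥(L ⊓ M)).map (L ⊓ M).subtype
  have hS₀p : IsPGroup 2 S₀ := P₀.2.map _
  have hS₀ : S₀ ≤ L ⊓ M := map_subtype_le _
  by_cases hN : ¬ normalizer (S₀ : Set G) ≤ M
  · exact ⟨S₀, hVR.trans hP₀, hS₀.trans inf_le_right, hS₀p, fun A _ hA => hA.trans hP₀, hN⟩
  rw [not_not] at hN
  obtain ⟨T', hT', hT'M⟩ := h.exists_sylow hS₀p (hS₀.trans inf_le_right)
  have h' := h.congr hT'M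
  obtain ⟨SL, hSL⟩ := exists_max_pGroup hS₀p (hS₀.trans inf_le_left)
  have hSLeq : (SL : Subgroup ↥L).map L.subtype = S₀ := by
    refine le_antisymm ?_ hSL
    by_contra hne
    set S := (SL : Subgroup ↥L).map L.subtype
    have hSp : IsPGroup 2 S := SL.2.map _
    haveI : Group.IsNilpotent S := hSp.isNilpotent
    have hlt : S₀.subgroupOf S < ⊤ := by
      rw [lt_top_iff_ne_top, Ne, subgroupOf_eq_top]
      exact hne
    obtain ⟨⟨x, hxS⟩, hxN, hxS₀⟩ := SetLike.exists_of_lt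
      (Group.normalizerCondition_of_isNilpotent _ hlt)
    have hxn : x ∈ normalizer (S₀ : Set G) := mem_normalizer_iff.2 fun y => by
      have hyS : ∀ z, z ∈ S₀ → z ∈ S := fun z hz => hSL hz
      constructor
      · intro hy
        exact (mem_normalizer_iff.1 hxN ⟨y, hyS y hy⟩).1 hy
      · intro hy
        have hyS' : y ∈ S := by
          have := mul_mem (mul_mem (inv_mem hxS) (hyS _ hy)) hxS
          simpa [mul_assoc] using this
        exact (mem_normalizer_iff.1 hxN ⟨y, hyS'⟩).2 hy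
    refine hxS₀ (mem_subgroupOf.2 ?_)
    have hxL : x ∈ L := map_subtype_le _ hxS
    have hle : S₀ ⊔ zpowers x ≤ L ⊓ M :=
      sup_le hS₀ (zpowers_le.2 ⟨hxL, hN hxn⟩)
    have hp : IsPGroup 2 ↥((S₀ ⊔ zpowers x).subgroupOf (L ⊓ M)) :=
      (hSp.to_le (sup_le hSL (zpowers_le.2 hxS))).comap_subtype
    have := P₀.3 hp fun y hy => mem_subgroupOf.2 (mem_sup_left ⟨y, hy, rfl⟩)
    exact ⟨⟨x, hxL, hN hxn⟩, this.le (mem_subgroupOf.2 (mem_sup_right (mem_zpowers x))), rfl⟩
  have hVL : V ≤ L := hVR.trans hRL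
  have hLlt : Nat.card L < Nat.card G :=
    lt_of_le_of_lt (card_le_of_le hLH) (ConjFun.card_lt_of_ne_top hH)
  set Z := V ⊓ centralizer (S₀ : Set G)
  set W := normalClosure ((Z.subgroupOf L : Subgroup ↥L) : Set ↥L) with hW
  haveI : (V.subgroupOf L).Normal := Normal.subgroupOf inferInstance L
  have hWV : W ≤ V.subgroupOf L := normalClosure_le_normal fun x hx => hx.1
  have hsub : ∀ x : ↥L, x ∈ (SL : Subgroup ↥L) ↔ (x : G) ∈ S₀ := fun x => by
    rw [← hSLeq]
    exact ⟨fun hx => ⟨x, hx, rfl⟩, fun ⟨y, hy, hyx⟩ => Subtype.ext hyx ▸ hy⟩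
  have hZW : W ⊓ centralizer ((SL : Subgroup ↥L) : Set ↥L) = Z.subgroupOf L := by
    refine le_antisymm (fun x hx => ?_) (le_inf subset_normalClosure fun x hx => ?_)
    · have hc : (x : G) ∈ centralizer (S₀ : Set G) := mem_centralizer_iff.2 fun y hy =>
        congrArg Subtype.val (hx.2 ⟨y, (hS₀ hy).1⟩ ((hsub _).2 hy))
      exact mem_subgroupOf.2 ⟨hWV hx.1, hc⟩
    · exact mem_centralizer_iff.2 fun y hy =>
        Subtype.ext ((mem_subgroupOf.1 hx).2 (y : G) ((hsub _).1 hy))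
  have hcent : centralizer ((Z.subgroupOf L : Subgroup ↥L) : Set ↥L) ≤ M.subgroupOf L := by
    intro x hx
    refine mem_subgroupOf.2 (h'.cent (mem_centralizer_iff.2 fun z hz => ?_))
    have hzZ : z ∈ Z := ⟨hz.1, centralizer_le hT' hz.2⟩
    exact congrArg Subtype.val (mem_centralizer_iff.1 hx ⟨z, hVL hz.1⟩ hzZ)
  have hset : Setup SL (M.subgroupOf L) W := by
    refine ⟨fun he => hLM (subgroupOf_eq_top.1 he), fun x hx =>
      mem_subgroupOf.2 (hS₀ ((hsub x).1 hx)).2, fun K hK hSK => ?_, ?_, normalClosure_normal, ?_, ?_, ?_⟩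
    · intro x hx
      refine mem_subgroupOf.2 ?_
      by_contra hxM
      have hKL : K.map L.subtype ≤ L := map_subtype_le K
      have hRK : R ≤ K.map L.subtype :=
        hP₀.trans (hSLeq.ge.trans (map_mono hSK))
      have hle := hmin (K.map L.subtype) ⟨hRK, hKL.trans hLH, fun hle => hxM (hle ⟨x, hx, rfl⟩)⟩
      have := eq_of_le_of_card_ge hKL hle
      exact hK (by
        rw [← comap_map_eq_self_of_injective L.subtype_injective K, this]
        exact subgroupOf_self L)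
    · exact PGroup.isElementaryAbelian_mono
        (PGroup.isElementaryAbelian_comap h.elem L.subtype_injective) hWV
    · rw [hZW]
    · rw [hZW]
      exact hcent
    · intro K φ hker
      let e := K.equivMapOfInjective L.subtype L.subtype_injective
      intro hs
      refine h.noS3 (K.map L.subtype) (φ.comp e.symm.toMonoidHom) (fun x hx => ?_)
        (hs.comp e.symm.surjective)
      obtain ⟨y, rfl⟩ := e.surjective x
      show φ (e.symm (e y)) = 1
      rw [e.symm_apply_apply]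
      refine hker y (mem_centralizer_iff.2 fun w hw => Subtype.ext ?_)
      exact mem_centralizer_iff.1 hx (w : G) (hWV hw)
  set K := centralizer (W : Set ↥L) with hK
  haveI : W.Normal := normalClosure_normal
  haveI : K.Normal := inferInstance
  have hKM : K ≤ M.subgroupOf L := (centralizer_le subset_normalClosure).trans hcent
  have hAK : ∀ A, FF V A → A ≤ R → A.subgroupOf L ≤ K := by
    intro A hA hAR
    by_contra hne
    have hWG : W.map L.subtype ≤ V :=
      (map_mono hWV).trans (map_subgroupOf_eq_of_le hVL).le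
    have := hA.subgroupOf h.elem (hAR.trans hRL) hWG (map_subtype_le W) (fun hle => hne fun a ha => by
      refine mem_centralizer_iff.2 fun w hw => Subtype.ext ?_
      exact mem_centralizer_iff.1 (hle (show (a : G) ∈ A from ha)) (w : G) ⟨w, hw, rfl⟩)
    rw [Subgroup.subgroupOf, comap_map_eq_self_of_injective L.subtype_injective] at this
    exact IH ↥L SL _ W hLlt hset _ this
  obtain ⟨PK, hPK⟩ := Offender.exists_sylow_eq_inf SL K
  refine ⟨((SL : Subgroup ↥L) ⊓ K).map L.subtype, ?_, ?_, ?_, ?_, ?_⟩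
  · refine fun v hv => ⟨⟨v, hVL hv⟩, ⟨(hsub _).2 (hP₀ (hVR hv)), ?_⟩, rfl⟩
    exact mem_centralizer_iff.2 fun w hw => Subtype.ext
      (PGroup.mul_comm_of_isMulCommutative h.elem.1 (hWV hw) hv)
  · exact (map_mono inf_le_left).trans (hSLeq.le.trans (hS₀.trans inf_le_right))
  · exact (SL.2.to_le inf_le_left).map _
  · exact fun A hA hAR a ha =>
      ⟨⟨a, hRL (hAR ha)⟩, ⟨(hsub _).2 (hP₀ (hAR ha)), hAK A hA hAR ha⟩, rfl⟩
  · intro hle
    refine hLM fun x hx => ?_
    have h1 := PK.normalizer_sup_eq_top (N := K)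
    rw [hPK] at h1
    have h2 : normalizer (((SL : Subgroup ↥L) ⊓ K : Subgroup ↥L) : Set ↥L) ⊔ K ≤ M.subgroupOf L :=
      sup_le (fun y hy => mem_subgroupOf.2 (hle (le_normalizer_map L.subtype ⟨y, hy, rfl⟩))) hKM
    exact mem_subgroupOf.1 (h2 (h1 ▸ mem_top (⟨x, hx⟩ : ↥L)))

/-- The subgroup generated by `V` and the offenders inside `R`. -/
theorem normalizer_offenders_le (IH : NoFFBelow.{u} (Nat.card G)) {R A : Subgroup G}
    (hR : IsPGroup 2 R) (hRM : R ≤ M) (hA : FF V A) (hAR : A ≤ R) :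
    normalizer (R : Set G) ≤ M := by
  haveI := h.normal
  by_contra hnot
  let off : Subgroup G → Subgroup G := fun R => V ⊔ sSup {B | FF V B ∧ B ≤ R}
  have hoff_le : ∀ R : Subgroup G, V ≤ R → off R ≤ R := fun R hV => sup_le hV (sSup_le fun B hB => hB.2)
  have hoff_mem : ∀ R B : Subgroup G, FF V B → B ≤ R → B ≤ off R := fun R B hB hBR =>
    le_trans (le_sSup (show B ∈ {B | FF V B ∧ B ≤ R} from ⟨hB, hBR⟩)) le_sup_right
  have hoff_norm : ∀ R : Subgroup G, normalizer (R : Set G) ≤ normalizer (off R : Set G) := by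
    intro R g hg
    have hle : ∀ g ∈ normalizer (R : Set G), (off R).map (MulAut.conj g).toMonoidHom ≤ off R := by
      intro g hg
      rw [show off R = V ⊔ sSup {B | FF V B ∧ B ≤ R} from rfl, Subgroup.map_sup, map_conj_eq_self g]
      refine sup_le le_sup_left (le_sup_of_le_right ?_)
      rw [map_le_iff_le_comap]
      refine sSup_le fun B hB => map_le_iff_le_comap.1 (le_sSup ⟨hB.1.conj g, ?_⟩)
      exact (map_mono hB.2).trans (mem_normalizer_iff_map_conj_eq.1 hg).le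
    refine mem_normalizer_iff.2 fun x => ⟨fun hx => hle g hg ⟨x, hx, rfl⟩, fun hx => ?_⟩
    have := hle g⁻¹ (inv_mem hg) ⟨_, hx, rfl⟩
    simpa [mul_assoc] using this
  have hsupR : IsPGroup 2 ↥(R ⊔ V) ∧ R ⊔ V ≤ M := by
    obtain ⟨T', hT', hT'M⟩ := h.exists_sylow hR hRM
    exact ⟨T'.2.to_le (sup_le hT' (h.le_sylow T')), sup_le hRM h.le_M⟩
  have hmem₀ : off (R ⊔ V) ∈ {S : Subgroup G | S ≤ M ∧ IsPGroup 2 S ∧ V ≤ S ∧ off S = S ∧
      (∃ B, FF V B ∧ B ≤ S) ∧ ¬ normalizer (S : Set G) ≤ M} := by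
    refine ⟨(hoff_le _ le_sup_right).trans hsupR.2, hsupR.1.to_le (hoff_le _ le_sup_right),
      le_sup_left, le_antisymm (hoff_le _ le_sup_left) (sup_le le_sup_left (sSup_le fun B hB =>
        hoff_mem _ B hB.1 (hoff_mem _ B hB.1 hB.2))),
      ⟨A, hA, hoff_mem _ A hA (hAR.trans le_sup_left)⟩, fun hle => hnot ?_⟩
    refine le_trans (le_trans ?_ (hoff_norm _)) hle
    intro g hg
    have eV : g ∈ normalizer (V : Set G) := by rw [normalizer_eq_top]; exact mem_top g
    rw [mem_normalizer_iff_map_conj_eq, Subgroup.map_sup, mem_normalizer_iff_map_conj_eq.1 eV,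
      mem_normalizer_iff_map_conj_eq.1 hg]
  obtain ⟨R₁, ⟨hR₁M, hR₁p, hVR₁, hoff₁, ⟨B, hB, hBR₁⟩, hN₁⟩, hmax⟩ :=
    Set.exists_max_image _ (fun S : Subgroup G => Nat.card S) (Set.toFinite _) ⟨_, hmem₀⟩
  obtain ⟨T', hT', hT'M⟩ := h.exists_sylow hR₁p hR₁M
  set S₁ := (T' : Subgroup G) ⊓ normalizer (R₁ : Set G) with hS₁
  have hR₁S₁ : R₁ ≤ S₁ := le_inf hT' le_normalizer
  have hex : ∃ A', FF V A' ∧ A' ≤ S₁ ∧ ¬ A' ≤ R₁ := by
    by_contra hall
    simp only [not_exists, not_and, not_not] at hall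
    have hoffS : off S₁ = R₁ := by
      refine le_antisymm (sup_le hVR₁ (sSup_le fun C hC => hall C hC.1 hC.2)) ?_
      rw [← hoff₁]
      exact sup_le le_sup_left (sSup_le fun C hC => hoff_mem _ C hC.1 (hC.2.trans hR₁S₁))
    have hTN : (T' : Subgroup G) ≤ normalizer (R₁ : Set G) := by
      by_contra hne
      haveI : Group.IsNilpotent ↥(T' : Subgroup G) := T'.2.isNilpotent
      have hlt : S₁.subgroupOf (T' : Subgroup G) < ⊤ := by
        rw [lt_top_iff_ne_top, Ne, subgroupOf_eq_top]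
        exact fun hle => hne (hle.trans inf_le_right)
      obtain ⟨⟨x, hxT⟩, hxN, hxS⟩ := SetLike.exists_of_lt
        (Group.normalizerCondition_of_isNilpotent _ hlt)
      refine hxS (mem_subgroupOf.2 ⟨hxT, ?_⟩)
      rw [← hoffS]
      refine hoff_norm _ (mem_normalizer_iff.2 fun y => ⟨fun hy => ?_, fun hy => ?_⟩)
      · exact (mem_normalizer_iff.1 hxN ⟨y, hy.1⟩).1 hy
      · have hyT : y ∈ (T' : Subgroup G) := by
          have := mul_mem (mul_mem (inv_mem hxT) hy.1) hxT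
          simpa [mul_assoc] using this
        exact (mem_normalizer_iff.1 hxN ⟨y, hyT⟩).2 hy
    exact hN₁ ((h.congr hT'M).uniq _ (h.normalizer_ne_top hR₁p hB hBR₁) hTN)
  obtain ⟨A', hA', hA'S, hA'R⟩ := hex
  obtain ⟨S, hVS, hSM, hSp, hSA, hSN⟩ := h.step IH (R := R₁ ⊔ A') (H := normalizer (R₁ : Set G))
    (T'.2.to_le (sup_le hT' (hA'S.trans inf_le_left)))
    (sup_le hR₁M ((hA'S.trans inf_le_left).trans hT'M)) (hVR₁.trans le_sup_left)
    (sup_le le_normalizer (hA'S.trans inf_le_right)) (h.normalizer_ne_top hR₁p hB hBR₁) hN₁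
  have hle : R₁ ≤ off S := by
    rw [← hoff₁]
    exact sup_le le_sup_left (sSup_le fun C hC => hoff_mem _ C hC.1
      (hSA C hC.1 (hC.2.trans le_sup_left)))
  have hA'o : A' ≤ off S := hoff_mem _ A' hA' (hSA A' hA' le_sup_right)
  have hge := hmax (off S) ⟨(hoff_le _ hVS).trans hSM, hSp.to_le (hoff_le _ hVS), le_sup_left,
    le_antisymm (hoff_le _ le_sup_left) (sup_le le_sup_left (sSup_le fun C hC =>
      hoff_mem _ C hC.1 (hoff_mem _ C hC.1 hC.2))),
    ⟨A', hA', hA'o⟩, fun hl => hSN ((hoff_norm S).trans hl)⟩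
  exact hA'R (eq_of_le_of_card_ge hle hge ▸ hA'o)

/-- A proper subgroup containing `V` and an offender of `M` lies in `M`. -/
theorem le_of_mem (IH : NoFFBelow.{u} (Nat.card G)) {H A : Subgroup G} (hA : FF V A)
    (hAM : A ≤ M) (hAH : A ≤ H) (hVH : V ≤ H) (hH : H ≠ ⊤) : H ≤ M := by
  by_contra hne
  obtain ⟨T', hT', -⟩ := h.exists_sylow hA.isPGroup hAM
  obtain ⟨S, -, hSM, hSp, hSA, hSN⟩ := h.step IH (R := A ⊔ V) (H := H)
    (T'.2.to_le (sup_le hT' (h.le_sylow T'))) (sup_le hAM h.le_M) le_sup_right (sup_le hAH hVH) hH hne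
  exact hSN (h.normalizer_offenders_le IH hSp hSM hA (hSA A hA le_sup_left))

end Setup

end Cfsg.Agent.SFourFree
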