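import Cfsg.Agent.Lib.SFourFree.Local
import Cfsg.Agent.Lib.Solvable.Basic

/-!
# A `2`-minimal group without natural `S₃` section has no offender on `⟨C_V(T)^G⟩`

* `Setup.no_ff`.
Uniqueness of the maximal subgroup over an offender, then: an element set `E = B ∩ M` of a foreign
offender `B` gives an offender `A` of `M` with `|A ∩ M'| > |E|`; so all these intersections are trivial,
and then two involutions generating an `S₃` appear.
-/

set_option autoImplicit false
set_option linter.style.haveILetI false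

namespace Cfsg.Agent.SFourFree

open Subgroup
open scoped commutatorElement

universe u

variable {G : Type u} [Group G] [Finite G]

omit [Finite G] in
theorem card_map_mk' (N H : Subgroup G) [N.Normal] (hNH : N ≤ H) :
    Nat.card (H.map (QuotientGroup.mk' N)) * Nat.card N = Nat.card H := by
  have h1 := Subgroup.card_mul_index (((QuotientGroup.mk' N).domRestrict H).ker)
  rw [Subgroup.index_ker, MonoidHom.domRestrict_range] at h1
  have h2 : Nat.card ((QuotientGroup.mk' N).domRestrict H).ker = Nat.card N := by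
    rw [MonoidHom.ker_domRestrict, QuotientGroup.ker_mk']
    exact Nat.card_congr (subgroupOfEquivOfLe hNH).toEquiv
  rw [h2] at h1
  rw [mul_comm]
  exact h1

/-- An offender of least order. -/
structure Red (V A : Subgroup G) : Prop where
  ff : FF V A
  ker : A ⊓ centralizer (V : Set G) = ⊥
  quad : ∀ v ∈ V, ∀ a ∈ A, ∀ b ∈ A, b * ⁅v, a⁆ = ⁅v, a⁆ * b
  strict : ∀ B ≤ A, B ≠ ⊥ → B ≠ A → Nat.card B * Nat.card ↥(V ⊓ centralizer (B : Set G)) <
    Nat.card A * Nat.card ↥(V ⊓ centralizer (A : Set G))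

omit [Finite G] in
theorem Red.conj {V A : Subgroup G} [V.Normal] (h : Red V A) (g : G) :
    Red V (A.map (MulAut.conj g).toMonoidHom) := by
  set c := MulAut.conj g
  have hV : V.map c.toMonoidHom = V := map_conj_eq_self g
  refine ⟨h.ff.conj g, eq_bot_iff.2 ?_, ?_, fun B hB hB1 hBA => ?_⟩
  · rintro _ ⟨⟨a, ha, rfl⟩, hc⟩
    have : a ∈ A ⊓ centralizer (V : Set G) := ⟨ha, mem_centralizer_iff.2 fun v hv => c.injective (by
      rw [map_mul, map_mul]
      exact mem_centralizer_iff.1 hc (c v) (hV.le ⟨v, hv, rfl⟩))⟩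
    rw [h.ker, mem_bot] at this
    rw [this, map_one]
    exact one_mem _
  · rintro v hv _ ⟨a, ha, rfl⟩ _ ⟨b, hb, rfl⟩
    obtain ⟨v₀, hv₀, rfl⟩ := hV.ge hv
    have := congrArg c (h.quad v₀ hv₀ a ha b hb)
    rw [map_mul, map_mul, map_commutatorElement] at this
    exact this
  · obtain ⟨B₀, rfl⟩ : ∃ B₀, B₀.map c.toMonoidHom = B :=
      ⟨B.comap c.toMonoidHom, map_comap_eq_self_of_surjective c.surjective B⟩
    rw [map_le_map_iff_of_injective c.injective] at hB
    have := h.strict B₀ hB (fun he => hB1 (by rw [he, Subgroup.map_bot])) (fun he => hBA (by rw [he]))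
    rw [← hV, ← map_inf_centralizer, ← map_inf_centralizer, card_map_of_injective c.injective,
      card_map_of_injective c.injective, card_map_of_injective c.injective,
      card_map_of_injective c.injective]
    exact this

theorem Red.card_le {V A : Subgroup G} (h : FF V A) :
    Nat.card V ≤ Nat.card A * Nat.card ↥(V ⊓ centralizer (A : Set G)) := by
  have h1 := h.best ⊥ bot_le
  rwa [card_bot, one_mul, show centralizer ((⊥ : Subgroup G) : Set G) = ⊤ from
    eq_top_iff.2 fun x _ y hy => by rw [mem_bot.1 hy, one_mul, mul_one], inf_top_eq] at h1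

namespace Setup

variable {T : Sylow 2 G} {M V : Subgroup G} (h : Setup T M V)
include h

theorem exists_conj_le {A : Subgroup G} (hA : Red V A) :
    ∃ A', Red V A' ∧ A' ≤ (T : Subgroup G) := by
  haveI := h.normal
  obtain ⟨S, hS⟩ := hA.ff.isPGroup.exists_le_sylow
  obtain ⟨x, rfl⟩ := MulAction.exists_smul_eq G S T
  refine ⟨_, hA.conj x, ?_⟩
  rw [Sylow.coe_subgroup_smul]
  rintro _ ⟨a, ha, rfl⟩
  exact ⟨a, hS ha, rfl⟩

omit [Finite G] in
theorem not_fix {A : Subgroup G} (hA : FF V A) (hAT : A ≤ (T : Subgroup G)) :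
    ¬ V ≤ centralizer ((T : Subgroup G) : Set G) := fun hle =>
  hA.moves (hAT.trans (le_centralizer_iff.1 hle))

theorem no_ff_of_center (IH : NoFFBelow.{u} (Nat.card G)) {A : Subgroup G} (hA : Red V A)
    (hAT : A ≤ (T : Subgroup G)) (hne : V ⊓ center G ≠ ⊥) : False := by
  haveI := h.normal
  set N := V ⊓ center G with hN
  haveI : N.Normal := inferInstance
  set π := QuotientGroup.mk' N with hπdef
  have hπ : Function.Surjective π := QuotientGroup.mk'_surjective N
  have hker : π.ker = N := QuotientGroup.ker_mk' N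
  have hNM : π.ker ≤ M := hker.trans_le (inf_le_left.trans h.le_M)
  set Z := V ⊓ centralizer ((T : Subgroup G) : Set G) with hZ
  have hNZ : N ≤ Z := le_inf inf_le_left (inf_le_right.trans (center_le_centralizer _))
  set H := (centralizer (Z.map π : Set (G ⧸ N))).comap π
  have hTH : (T : Subgroup G) ≤ H := fun t ht => mem_centralizer_iff.2 (by
    rintro _ ⟨z, hz, rfl⟩
    rw [← map_mul, ← map_mul]
    exact congrArg π (mem_centralizer_iff.1 hz.2 t ht).symm)
  have hHM : H ≤ M := by
    refine h.uniq H (fun he => h.not_fix hA.ff hAT ?_) hTH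
    have hZn : Z.Normal := by
      refine ⟨fun z hz g => ?_⟩
      have hgH : g ∈ H := he ▸ mem_top g
      have h1 : π (g * z * g⁻¹) = π z := by
        have h0 := mem_centralizer_iff.1 hgH (π z) ⟨z, hz, rfl⟩
        rw [map_mul, map_mul, map_inv, ← h0, mul_inv_cancel_right]
      have h2 : z⁻¹ * (g * z * g⁻¹) ∈ N := QuotientGroup.eq.mp h1.symm
      simpa using mul_mem hz (hNZ h2)
    exact h.gen.ge.trans ((normalClosure_le_normal (N := Z) fun x hx => hx).trans inf_le_right)
  have hset : Setup (T.mapSurjective hπ) (M.map π) (V.map π) := by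
    refine ⟨fun he => h.ne_top ?_, ?_, fun K hK hTK => ?_, PGroup.isElementaryAbelian_map h.elem π,
      Normal.map inferInstance π hπ, ?_, ?_, ?_⟩
    · rw [← comap_map_eq_self hNM, he, comap_top]
    · rw [Sylow.coe_mapSurjective]
      exact map_mono h.le
    · rw [Sylow.coe_mapSurjective] at hTK
      rw [← map_comap_eq_self_of_surjective hπ K]
      refine map_mono (h.uniq _ (fun he => hK ?_) (map_le_iff_le_comap.1 hTK))
      rw [← map_comap_eq_self_of_surjective hπ K, he, map_top_of_surjective π hπ]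
    · haveI : (V.map π).Normal := Normal.map inferInstance π hπ
      refine le_antisymm (normalClosure_le_normal fun x hx => hx.1) ?_
      conv_lhs => rw [← h.gen]
      rw [map_normalClosure _ π hπ]
      refine normalClosure_mono ?_
      rintro _ ⟨z, hz, rfl⟩
      refine ⟨mem_map_of_mem π hz.1, mem_centralizer_iff.2 ?_⟩
      rw [Sylow.coe_mapSurjective]
      rintro _ ⟨t, ht, rfl⟩
      rw [← map_mul, ← map_mul]
      exact congrArg π (mem_centralizer_iff.1 hz.2 t ht)
    · intro x hx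
      obtain ⟨y, rfl⟩ := hπ x
      refine mem_map_of_mem π (hHM (mem_centralizer_iff.2 ?_))
      rintro _ ⟨z, hz, rfl⟩
      refine mem_centralizer_iff.1 hx _ ⟨mem_map_of_mem π hz.1, mem_centralizer_iff.2 ?_⟩
      rw [Sylow.coe_mapSurjective]
      rintro _ ⟨t, ht, rfl⟩
      rw [← map_mul, ← map_mul]
      exact congrArg π (mem_centralizer_iff.1 hz.2 t ht)
    · intro K φ hφ hs
      let r : ↥(K.comap π) →* ↥K := (π.comp (K.comap π).subtype).codRestrict K fun x => x.2
      refine h.noS3 (K.comap π) (φ.comp r) (fun x hx => hφ (r x) ?_) (hs.comp ?_)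
      · refine mem_centralizer_iff.2 ?_
        rintro _ ⟨v, hv, rfl⟩
        show π v * π (x : G) = π (x : G) * π v
        rw [← map_mul, ← map_mul]
        exact congrArg π (mem_centralizer_iff.1 hx v hv)
      · rintro ⟨q, hq⟩
        obtain ⟨y, rfl⟩ := hπ q
        exact ⟨⟨y, hq⟩, rfl⟩
  -- the kernel on the quotient
  have hK : (centralizer (V.map π : Set (G ⧸ N))).comap π ≤ centralizer (V : Set G) := by
    haveI : (V.map π).Normal := Normal.map inferInstance π hπ
    refine h.le_of_le_normal _ fun n hn => ⟨1, mem_centralizer_iff.2 fun v hv => ?_⟩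
    have h0 := mem_centralizer_iff.1 hn (π v) ⟨v, hv, rfl⟩
    have h1 : π (n * v * n⁻¹) = π v := by
      rw [map_mul, map_mul, map_inv, ← h0, mul_inv_cancel_right]
    have h2 : v⁻¹ * (n * v * n⁻¹) ∈ N := QuotientGroup.eq.mp h1.symm
    set c := v⁻¹ * (n * v * n⁻¹) with hc
    have hnv : n * v * n⁻¹ = v * c := by rw [hc, mul_inv_cancel_left]
    have hcn : n * c * n⁻¹ = c := by
      rw [(mem_center_iff.1 h2.2 n), mul_inv_cancel_right]
    have hc2 : c * c = 1 := by
      have := h.elem.2 c h2.1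
      rwa [pow_two] at this
    have h3 : n ^ 2 ^ 1 * v * (n ^ 2 ^ 1)⁻¹ = v := by
      calc n ^ 2 ^ 1 * v * (n ^ 2 ^ 1)⁻¹ = n * (n * v * n⁻¹) * n⁻¹ := by rw [pow_one, pow_two]; group
        _ = n * (v * c) * n⁻¹ := by rw [hnv]
        _ = (n * v * n⁻¹) * (n * c * n⁻¹) := by group
        _ = v := by rw [hnv, hcn, mul_assoc, hc2, mul_one]
    exact (mul_inv_eq_iff_eq_mul.1 h3).symm
  have hinj : Nat.card (A.map π) = Nat.card A := by
    have hd : A ⊓ π.ker = ⊥ := by
      rw [hker, eq_bot_iff, ← hA.ker]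
      exact inf_le_inf_left _ (inf_le_right.trans (center_le_centralizer _))
    have h1 : Function.Injective (π.domRestrict A) := by
      rw [← MonoidHom.ker_eq_bot_iff, eq_bot_iff]
      intro x hx
      exact Subtype.ext (mem_bot.1 (hd.le ⟨x.2, hx⟩))
    rw [← MonoidHom.domRestrict_range]
    exact (Nat.card_congr (MonoidHom.ofInjective h1).toEquiv).symm
  have hne' : A.map π ≠ ⊥ := by
    intro he
    rw [he, card_bot] at hinj
    exact hA.ff.moves ((card_eq_one.1 hinj.symm).trans_le bot_le)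
  have hkerA : A.map π ⊓ centralizer (V.map π : Set (G ⧸ N)) = ⊥ := by
    rw [eq_bot_iff]
    rintro _ ⟨⟨a, ha, rfl⟩, hc⟩
    have : a ∈ A ⊓ centralizer (V : Set G) := ⟨ha, hK hc⟩
    rw [hA.ker, mem_bot] at this
    rw [this, map_one]
    exact one_mem _
  have hoff : Nat.card (V.map π) ≤ Nat.card (A.map π) *
      Nat.card ↥(V.map π ⊓ centralizer (A.map π : Set (G ⧸ N))) := by
    refine Nat.le_of_mul_le_mul_right ?_ (Nat.card_pos : 0 < Nat.card N)
    rw [card_map_mk' N V inf_le_left, hinj]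
    refine (Red.card_le hA.ff).trans ?_
    rw [mul_assoc]
    refine Nat.mul_le_mul_left _ ?_
    have hNX : N ≤ V ⊓ centralizer (A : Set G) :=
      le_inf inf_le_left (inf_le_right.trans (center_le_centralizer _))
    rw [← card_map_mk' N _ hNX]
    refine Nat.mul_le_mul_right _ (card_le_of_le ?_)
    rintro _ ⟨x, hx, rfl⟩
    refine ⟨mem_map_of_mem π hx.1, mem_centralizer_iff.2 ?_⟩
    rintro _ ⟨a, ha, rfl⟩
    rw [← map_mul, ← map_mul]
    exact congrArg π (mem_centralizer_iff.1 hx.2 a ha)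
  obtain ⟨B, -, hB⟩ := exists_ff_le (PGroup.isElementaryAbelian_map hA.ff.el π) hne' hkerA hoff
  exact IH _ _ _ _ (ConjFun.card_quotient_lt hne) hset B hB

theorem no_ff_of_faithful (IH : NoFFBelow.{u} (Nat.card G)) {A : Subgroup G} (hA : Red V A)
    (hAT : A ≤ (T : Subgroup G)) (hc : V ⊓ center G = ⊥) : False := by
  haveI := h.normal
  have hAM : A ≤ M := hAT.trans h.le
  let cj : G → Subgroup G → Subgroup G := fun g K => K.map (MulAut.conj g).toMonoidHom
  have hmem : ∀ (g : G) (K : Subgroup G) (x : G), x ∈ cj g K ↔ g⁻¹ * x * g ∈ K := fun g K x =>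
    ConjFun.mem_conjMap
  have hmul : ∀ (g k : G) (K : Subgroup G), cj (g * k) K = cj g (cj k K) := fun g k K =>
    ConjFun.conjMap_mul K g k
  have hcardc : ∀ (g : G) (K : Subgroup G), Nat.card (cj g K) = Nat.card K := fun g K =>
    ConjFun.card_conjMap K g
  have hVc : ∀ g, cj g V = V := fun g => map_conj_eq_self g
  have hYc : ∀ g, Nat.card ↥(V ⊓ centralizer (cj g A : Set G)) =
      Nat.card ↥(V ⊓ centralizer (A : Set G)) := fun g => by
    rw [show cj g A = A.map (MulAut.conj g).toMonoidHom from rfl]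
    conv_lhs => rw [← hVc g]
    rw [show cj g V = V.map (MulAut.conj g).toMonoidHom from rfl, ← map_inf_centralizer,
      card_map_of_injective (MulAut.conj g).injective]
  have hstab : ∀ w ∈ V, w ≠ 1 → centralizer ({w} : Set G) ≠ ⊤ := fun w hw hw1 he => hw1 (by
    have : w ∈ V ⊓ center G := ⟨hw, mem_center_iff.2 fun x =>
      mem_centralizer_singleton_iff.1 (he ▸ mem_top x)⟩
    rwa [hc, mem_bot] at this)
  have hVcen : ∀ w ∈ V, V ≤ centralizer ({w} : Set G) := fun w hw x hx =>
    mem_centralizer_singleton_iff.2 (PGroup.mul_comm_of_isMulCommutative h.elem.1 hx hw)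
  have hfix : ∀ (A' : Subgroup G) (w : G), w ∈ centralizer (A' : Set G) →
      A' ≤ centralizer ({w} : Set G) := fun A' w hw x hx =>
    mem_centralizer_singleton_iff.2 (mem_centralizer_iff.1 hw x hx)
  have hCw : ∀ A', FF V A' → A' ≤ M → ∀ w ∈ V, w ≠ 1 → w ∈ centralizer (A' : Set G) →
      centralizer ({w} : Set G) ≤ M := fun A' hA' hA'M w hw hw1 hwA =>
    h.le_of_mem IH hA' hA'M (hfix A' w hwA) (hVcen w hw) (hstab w hw hw1)
  have hCwc : ∀ (g : G), ∀ w ∈ V, w ≠ 1 → w ∈ centralizer (cj g A : Set G) →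
      centralizer ({w} : Set G) ≤ cj g M := by
    intro g w hw hw1 hwA x hx
    rw [hmem]
    refine hCw A hA.ff hAM (g⁻¹ * w * g) ?_ ?_ (mem_centralizer_iff.2 fun a ha => ?_)
      (mem_centralizer_singleton_iff.2 ?_)
    · simpa using h.normal.conj_mem w hw g⁻¹
    · intro he
      apply hw1
      have := congrArg (fun z => g * z * g⁻¹) he
      simpa [mul_assoc] using this
    · have h1 := mem_centralizer_iff.1 hwA (g * a * g⁻¹) ⟨a, ha, rfl⟩
      calc a * (g⁻¹ * w * g) = g⁻¹ * (g * a * g⁻¹ * w) * g := by group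
        _ = g⁻¹ * (w * (g * a * g⁻¹)) * g := by rw [h1]
        _ = g⁻¹ * w * g * a := by group
    · have h1 : x * w = w * x := mem_centralizer_singleton_iff.1 hx
      calc g⁻¹ * x * g * (g⁻¹ * w * g) = g⁻¹ * (x * w) * g := by group
        _ = g⁻¹ * (w * x) * g := by rw [h1]
        _ = g⁻¹ * w * g * (g⁻¹ * x * g) := by group
  have hdisj : ∀ g, ¬ cj g A ≤ M → ∀ A', FF V A' → A' ≤ M → ∀ w ∈ V,
      w ∈ centralizer (A' : Set G) → w ∈ centralizer (cj g A : Set G) → w = 1 :=
    fun g hg A' hA' hA'M w hw h1 h2 => by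
      by_contra hw1
      exact hg ((hfix _ w h2).trans (hCw A' hA' hA'M w hw hw1 h1))
  have hsep : ∀ g, ¬ cj g A ≤ M → ∀ A', FF V A' → A' ≤ M → ¬ A' ≤ cj g M := by
    intro g hg A' hA' hA'M hle
    have hne : cj g M ≠ ⊤ := fun he => h.ne_top (eq_top_of_card_eq _ (by
      rw [← hcardc g M, he, card_top]))
    have h1 : cj g M ≤ M :=
      h.le_of_mem IH hA' hA'M hle ((hVc g).ge.trans (map_mono h.le_M)) hne
    exact hg ((map_mono hAM).trans h1)
  have hinf : ∀ (g : G) (A' : Subgroup G),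
      cj g⁻¹ (A' ⊓ cj g M) = cj g⁻¹ A' ⊓ M := fun g A' => by
    ext x
    simp only [mem_inf, hmem]
    constructor
    · rintro ⟨h1, h2⟩
      refine ⟨h1, ?_⟩
      simpa [mul_assoc] using h2
    · rintro ⟨h1, h2⟩
      exact ⟨h1, by simpa [mul_assoc] using h2⟩
  -- there is a conjugate outside `M`
  obtain ⟨g, hg, hmax⟩ := Set.exists_max_image {g : G | ¬ cj g A ≤ M}
    (fun g => Nat.card ↥(cj g A ⊓ M)) (Set.toFinite _) (by
      by_contra hall
      rw [Set.not_nonempty_iff_eq_empty] at hall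
      have hall' : ∀ g, cj g A ≤ M := fun g => by
        by_contra hg
        exact absurd (show g ∈ {g : G | ¬ cj g A ≤ M} from hg) (hall ▸ Set.notMem_empty g)
      set N := normalClosure (A : Set G)
      have hNM : N ≤ M := by
        refine (closure_le _).2 fun x hx => ?_
        obtain ⟨a, ha, hax⟩ := Group.mem_conjugatesOfSet_iff.1 hx
        obtain ⟨y, rfl⟩ := isConj_iff.1 hax
        exact hall' y ⟨a, ha, rfl⟩
      obtain ⟨P, hP⟩ := Offender.exists_sylow_eq_inf T N
      have h1 := P.normalizer_sup_eq_top (N := N)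
      rw [hP] at h1
      refine h.ne_top (top_le_iff.1 (h1.ge.trans (sup_le ?_ hNM)))
      exact h.normalizer_offenders_le IH (T.2.to_le inf_le_left) (inf_le_left.trans h.le) hA.ff
        (le_inf hAT subset_normalClosure))
  have hg' : ¬ cj g A ≤ M := hg
  have hbound : ∀ A', Red V A' → A' ≤ M → (∃ x, A' = cj x A) →
      Nat.card ↥(A' ⊓ cj g M) ≤ Nat.card ↥(cj g A ⊓ M) := by
    rintro A' hA' hA'M ⟨x, rfl⟩
    rw [← hcardc g⁻¹, hinf, ← hmul]
    refine hmax (g⁻¹ * x) fun hle => hsep g hg' (cj x A) hA'.ff hA'M fun y hy => ?_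
    rw [hmem]
    exact hle (by rw [hmul, hmem]; simpa [mul_assoc] using hy)
  set B := cj g A with hBdef
  have hB : Red V B := hA.conj g
  set Y := V ⊓ centralizer (B : Set G) with hY
  have hBY : ∀ w ∈ V, ∀ e ∈ B, ⁅w, e⁆ ∈ Y := fun w hw e he => by
    refine ⟨?_, mem_centralizer_iff.2 fun b hb => hB.quad w hw e he b hb⟩
    rw [commutatorElement_def, show w * e * w⁻¹ * e⁻¹ = w * (e * w⁻¹ * e⁻¹) by group]
    exact mul_mem hw (h.normal.conj_mem _ (inv_mem hw) e)
  have hfun : ∀ A', Red V A' → ∀ u ∈ V, ∃ f : ↥A' →* G, ∀ a : ↥A', f a = ⁅u, (a : G)⁆ :=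
    fun A' hA' u hu => ⟨MonoidHom.mk' (fun a => ⁅u, (a : G)⁆) fun a b => by
      have hq := hA'.quad u hu b b.2 a a.2
      show ⁅u, (a : G) * (b : G)⁆ = ⁅u, (a : G)⁆ * ⁅u, (b : G)⁆
      rw [commutatorElement_mul_right_eq_mul_conj]
      simp only [mul_assoc]
      rw [← mul_assoc (a : G), hq, mul_assoc, mul_inv_cancel, mul_one], fun a => rfl⟩
  by_cases hE : B ⊓ M = ⊥
  · -- all intersections trivial: `S₃`
    set X := V ⊓ centralizer (A : Set G) with hX
    obtain ⟨v, hvX, hv1⟩ : ∃ v ∈ X, v ≠ 1 := by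
      by_contra hall
      simp only [not_exists, not_and, not_not] at hall
      refine h.not_fix hA.ff hAT ?_
      rw [← h.gen]
      refine (normalClosure_le_normal fun z hz => ?_).trans bot_le
      exact mem_bot.2 (hall z ⟨hz.1, centralizer_le hAT hz.2⟩)
    obtain ⟨b, hb, hu1⟩ : ∃ b ∈ B, ⁅v, b⁆ ≠ 1 := by
      by_contra hall
      simp only [not_exists, not_and, not_not] at hall
      exact hv1 (hdisj g hg' A hA.ff hAM v hvX.1 hvX.2 (mem_centralizer_iff.2 fun b hb =>
        (commutatorElement_eq_one_iff_mul_comm.1 (hall b hb)).symm))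
    set u := ⁅v, b⁆
    have hu : u ∈ Y := hBY v hvX.1 b hb
    obtain ⟨f, hf⟩ := hfun A hA u hu.1
    have hker : Function.Injective f := by
      rw [injective_iff_map_eq_one]
      intro a ha
      rw [hf, commutatorElement_eq_one_iff_mul_comm] at ha
      have hb1 := hbound A hA hAM ⟨1, by
        show A = A.map (MulAut.conj (1 : G)).toMonoidHom
        rw [ConjFun.conjMap_one]⟩
      rw [hE, card_bot] at hb1
      have : (a : G) ∈ A ⊓ cj g M := ⟨a.2, hCwc g u hu.1 hu1 hu.2
        (mem_centralizer_singleton_iff.2 ha.symm)⟩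
      rw [eq_bot_of_card_le _ hb1, mem_bot] at this
      exact Subtype.ext this
    have hrange : f.range ≤ X := by
      rintro _ ⟨a, rfl⟩
      rw [hf]
      refine ⟨?_, mem_centralizer_iff.2 fun c hc => hA.quad u hu.1 a a.2 c hc⟩
      rw [commutatorElement_def, show u * (a : G) * u⁻¹ * (a : G)⁻¹ = u * ((a : G) * u⁻¹ * (a : G)⁻¹)
        by group]
      exact mul_mem hu.1 (h.normal.conj_mem _ (inv_mem hu.1) _)
    have hXA : Nat.card X ≤ Nat.card A := by
      have hn : X ≤ normalizer (Y : Set G) := fun x hx => centralizer_le_normalizer _ fun y hy =>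
        PGroup.mul_comm_of_isMulCommutative h.elem.1 hy.1 hx.1
      have e := Offender.card_sup_mul_card_inf hn
      rw [show X ⊓ Y = ⊥ from eq_bot_iff.2 fun w hw => mem_bot.2
        (hdisj g hg' A hA.ff hAM w hw.1.1 hw.1.2 hw.2.2), card_bot, mul_one] at e
      have h1 : Nat.card X * Nat.card Y ≤ Nat.card B * Nat.card Y :=
        e.symm.le.trans ((card_le_of_le (sup_le inf_le_left inf_le_left)).trans (Red.card_le hB.ff))
      rw [hcardc] at h1
      exact Nat.le_of_mul_le_mul_right h1 Nat.card_pos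
    have hsurj : f.range = X := eq_of_le_of_card_ge hrange
      (hXA.trans (Nat.card_congr (MonoidHom.ofInjective hker).toEquiv).le)
    obtain ⟨a, ha⟩ := hsurj.ge hvX
    rw [hf] at ha
    have hsq : ∀ w ∈ V, w⁻¹ = w := fun w hw => inv_eq_of_mul_eq_one_right (by
      have := h.elem.2 w hw; rwa [pow_two] at this)
    have hcomm := PGroup.mul_comm_of_isMulCommutative h.elem.1 hu.1 hvX.1
    have hau : (a : G) * u * (a : G)⁻¹ = u * v := by
      rw [← ha, commutatorElement_def, hsq u hu.1,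
        show u * (u * (a : G) * u * (a : G)⁻¹) = u * u * ((a : G) * u * (a : G)⁻¹) by group]
      have := h.elem.2 u hu.1
      rw [pow_two] at this
      rw [this, one_mul]
    have hav : (a : G) * v * (a : G)⁻¹ = v := by
      rw [mem_centralizer_iff.1 hvX.2 a a.2, mul_inv_cancel_right]
    have hbu : b * u * b⁻¹ = u := by
      rw [mem_centralizer_iff.1 hu.2 b hb, mul_inv_cancel_right]
    have hbv : b * v * b⁻¹ = u * v := by
      have hu' : u = v * (b * v⁻¹ * b⁻¹) := by
        show ⁅v, b⁆ = _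
        rw [commutatorElement_def]; group
      rw [hsq v hvX.1] at hu'
      have h2 := h.elem.2 v hvX.1
      rw [pow_two] at h2
      rw [hcomm, hu', ← mul_assoc, h2, one_mul]
    have huv : u ≠ v := fun he => hv1 (hdisj g hg' A hA.ff hAM v hvX.1 hvX.2 (he ▸ hu.2))
    have hsq' : u * u = 1 := by have := h.elem.2 u hu.1; rwa [pow_two] at this
    have hvq : v * v = 1 := by have := h.elem.2 v hvX.1; rwa [pow_two] at this
    refine not_noS3 hu.1 hvX.1 hau hav hbu hbv ?_ ?_ hu1 hv1 huv h.noS3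
    · rw [show (a : G) * (u * v) * (a : G)⁻¹ = ((a : G) * u * (a : G)⁻¹) * ((a : G) * v * (a : G)⁻¹) by
        group, hau, hav, mul_assoc, hvq, mul_one]
    · rw [show b * (u * v) * b⁻¹ = (b * u * b⁻¹) * (b * v * b⁻¹) by group, hbu, hbv, ← mul_assoc,
        hsq', one_mul]
  · -- a larger intersection
    set E := B ⊓ M with hEdef
    obtain ⟨T₁, hET, hT₁M⟩ := h.exists_sylow (hB.ff.isPGroup.to_le inf_le_left)
      (inf_le_right : E ≤ M)
    obtain ⟨x, hx⟩ := MulAction.exists_smul_eq G T T₁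
    set A₁ := cj x A
    have hA₁T : A₁ ≤ (T₁ : Subgroup G) := by
      rw [← hx, Sylow.coe_subgroup_smul]
      rintro _ ⟨a, ha, rfl⟩
      exact ⟨a, hAT ha, rfl⟩
    have hA₁ : Red V A₁ := hA.conj x
    have hA₁M : A₁ ≤ M := hA₁T.trans hT₁M
    obtain ⟨P, ⟨hPV, hPT, hPE⟩, hPmax⟩ := Set.exists_max_image
      {P : Subgroup G | P ≤ V ∧ (T₁ : Subgroup G) ≤ normalizer (P : Set G) ∧
        E ≤ centralizer (P : Set G)} (fun P => Nat.card P) (Set.toFinite _)
      ⟨⊥, bot_le, by rw [normalizer_eq_top]; exact le_top,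
        fun e _ z hz => by rw [mem_bot.1 hz, one_mul, mul_one]⟩
    have hPne : ¬ V ≤ P := fun hle => hE (le_bot_iff.1 (hB.ker ▸
      le_inf inf_le_left (hPE.trans (centralizer_le hle))))
    obtain ⟨w, hwV, hwP, hwT⟩ : ∃ w ∈ V, w ∉ P ∧ ∀ t ∈ (T₁ : Subgroup G), ⁅w, t⁆ ∈ P := by
      have hPT₁ : P ≤ (T₁ : Subgroup G) := hPV.trans (h.le_sylow T₁)
      haveI : (P.subgroupOf (T₁ : Subgroup G)).Normal := normal_subgroupOf_of_le_normalizer hPT
      set ρ := QuotientGroup.mk' (P.subgroupOf (T₁ : Subgroup G))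
      haveI : ((V.subgroupOf (T₁ : Subgroup G)).map ρ).Normal :=
        Normal.map (Normal.subgroupOf inferInstance _) ρ (QuotientGroup.mk'_surjective _)
      haveI : Group.IsNilpotent (↥(T₁ : Subgroup G) ⧸ P.subgroupOf (T₁ : Subgroup G)) :=
        (T₁.2.to_quotient _).isNilpotent
      have hne : (V.subgroupOf (T₁ : Subgroup G)).map ρ ≠ ⊥ := by
        rw [Ne, Subgroup.map_eq_bot_iff, QuotientGroup.ker_mk']
        exact fun hle => hPne fun v hv =>
          mem_subgroupOf.1 (hle (show (⟨v, h.le_sylow T₁ hv⟩ : ↥(T₁ : Subgroup G)) ∈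
            V.subgroupOf (T₁ : Subgroup G) from hv))
      obtain ⟨q, hq, hq1⟩ := (bot_or_exists_ne_one _).resolve_left (Solvable.inf_center_ne_bot hne)
      obtain ⟨⟨w, hwV, rfl⟩, hqc⟩ := hq
      refine ⟨(w : G), hwV, fun hwP => hq1 ((QuotientGroup.eq_one_iff w).2 hwP), fun t ht => ?_⟩
      have h1 : ρ ⁅w, ⟨t, ht⟩⁆ = 1 := by
        rw [map_commutatorElement, commutatorElement_eq_one_iff_mul_comm]
        exact (mem_center_iff.1 hqc _).symm
      exact mem_subgroupOf.1 ((QuotientGroup.eq_one_iff (N := P.subgroupOf (T₁ : Subgroup G)) _).1 h1)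
    obtain ⟨e, he, hu1⟩ : ∃ e ∈ E, ⁅w, e⁆ ≠ 1 := by
      by_contra hall
      simp only [not_exists, not_and, not_not] at hall
      have hcomm : ∀ y ∈ P, ∀ z ∈ zpowers w, y * z = z * y := fun y hy z hz =>
        PGroup.mul_comm_of_isMulCommutative h.elem.1 (hPV hy) (zpowers_le.2 hwV hz)
      have hnorm : ∀ t ∈ (T₁ : Subgroup G),
          (P ⊔ zpowers w).map (MulAut.conj t).toMonoidHom ≤ P ⊔ zpowers w := by
        intro t ht
        have eP : P.map (MulAut.conj t).toMonoidHom = P := mem_normalizer_iff_map_conj_eq.1 (hPT ht)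
        rw [Subgroup.map_sup, eP, MonoidHom.map_zpowers]
        refine sup_le le_sup_left (zpowers_le.2 ?_)
        show t * w * t⁻¹ ∈ _
        have e1 : t * w * t⁻¹ = ⁅w, t⁆⁻¹ * w := by rw [commutatorElement_def]; group
        rw [e1]
        exact mul_mem (mem_sup_left (inv_mem (hwT t ht))) (mem_sup_right (mem_zpowers w))
      have hlt : P < P ⊔ zpowers w := lt_of_le_of_ne le_sup_left fun he =>
        hwP (he ▸ mem_sup_right (mem_zpowers w))
      refine absurd (hPmax (P ⊔ zpowers w) ⟨sup_le hPV (zpowers_le.2 hwV), fun t ht => ?_, ?_⟩)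
        (not_le.2 (Set.ncard_lt_ncard hlt))
      · exact mem_normalizer_iff.2 fun y => ⟨fun hy => hnorm t ht ⟨y, hy, rfl⟩, fun hy => by
          have := hnorm t⁻¹ (inv_mem ht) ⟨_, hy, rfl⟩
          simpa [mul_assoc] using this⟩
      · rw [Offender.centralizer_sup_eq]
        refine le_inf hPE fun e he => ?_
        rw [zpowers_eq_closure, centralizer_closure, mem_centralizer_singleton_iff]
        exact (commutatorElement_eq_one_iff_mul_comm.1 (hall e he)).symm
    set u := ⁅w, e⁆
    have huP : u ∈ P := hwT e (hET he)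
    have huY : u ∈ Y := hBY w hwV e he.1
    obtain ⟨f, hf⟩ := hfun A₁ hA₁ u huY.1
    have hU : f.range ≤ P ⊓ (V ⊓ centralizer (A₁ : Set G)) := by
      rintro _ ⟨a, rfl⟩
      rw [hf]
      have hP' : ⁅u, (a : G)⁆ ∈ P := by
        rw [commutatorElement_def, show u * (a : G) * u⁻¹ * (a : G)⁻¹ =
          u * ((a : G) * u⁻¹ * (a : G)⁻¹) by group]
        exact mul_mem huP ((mem_normalizer_iff.1 (hPT (hA₁T a.2)) _).1 (inv_mem huP))
      exact ⟨hP', hPV hP', mem_centralizer_iff.2 fun c hc => hA₁.quad u huY.1 a a.2 c hc⟩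
    have hcard := Subgroup.card_mul_index f.ker
    rw [Subgroup.index_ker] at hcard
    have hK : f.ker.map A₁.subtype ≤ A₁ ⊓ cj g M := by
      rintro _ ⟨a, ha, rfl⟩
      have h0 : f a = 1 := ha
      rw [hf, commutatorElement_eq_one_iff_mul_comm] at h0
      exact ⟨a.2, hCwc g u huY.1 hu1 huY.2 (mem_centralizer_singleton_iff.2 h0.symm)⟩
    have hKle : Nat.card f.ker ≤ Nat.card E := by
      rw [← card_map_of_injective A₁.subtype_injective]
      exact (card_le_of_le hK).trans (hbound A₁ hA₁ hA₁M ⟨x, rfl⟩)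
    have hn : f.range ≤ normalizer (Y : Set G) := fun z hz => centralizer_le_normalizer _ fun y hy =>
      PGroup.mul_comm_of_isMulCommutative h.elem.1 hy.1 (hPV (hU hz).1)
    have e1 := Offender.card_sup_mul_card_inf hn
    rw [show f.range ⊓ Y = ⊥ from eq_bot_iff.2 fun z hz => mem_bot.2
      (hdisj g hg' A₁ hA₁.ff hA₁M z hz.2.1 (hU hz.1).2.2 hz.2.2), card_bot, mul_one] at e1
    have hfixE : f.range ⊔ Y ≤ V ⊓ centralizer (E : Set G) :=
      sup_le (fun z hz => ⟨hPV (hU hz).1, le_centralizer_iff.1 hPE (hU hz).1⟩)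
        (inf_le_inf_left _ (centralizer_le inf_le_left))
    have h1 : Nat.card E * (Nat.card f.range * Nat.card Y) < Nat.card B * Nat.card Y :=
      lt_of_le_of_lt (Nat.mul_le_mul_left _ (e1.symm.le.trans (card_le_of_le hfixE)))
        (hB.strict E inf_le_left hE fun he' => hg' (inf_eq_left.1 he'))
    rw [← mul_assoc] at h1
    have h2 := Nat.lt_of_mul_lt_mul_right h1
    rw [hcardc, ← hcardc x A, ← hcard] at h2
    exact absurd hKle (not_le.2 (Nat.lt_of_mul_lt_mul_right h2))

end Setup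

theorem noFFBelow (n : ℕ) : NoFFBelow.{u} n := by
  induction n using Nat.strong_induction_on with
  | _ n IH =>
  intro L _ _ T M V hlt h A₀ hA₀
  haveI := h.normal
  obtain ⟨A₁, h1, h2, h3, h4⟩ := exists_reduced h.elem hA₀
  have hred : Red V A₁ := ⟨h1, h2, fun v hv a ha b hb =>
    mem_centralizer_iff.1 (h3 (commutator_mem_commutator hv ha)) b hb, h4⟩
  obtain ⟨A, hA, hAT⟩ := h.exists_conj_le hred
  by_cases hc : V ⊓ center L = ⊥
  · exact h.no_ff_of_faithful (IH _ hlt) hA hAT hc
  · exact h.no_ff_of_center (IH _ hlt) hA hAT hc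

/-- No offender on `V = ⟨C_V(T)^G⟩` in a `2`-minimal group without natural `S₃` section. -/
theorem Setup.no_ff {T : Sylow 2 G} {M V : Subgroup G} (h : Setup T M V) (A : Subgroup G) :
    ¬ FF V A :=
  noFFBelow (Nat.card G + 1) G T M V (Nat.lt_succ_self _) h A

end Cfsg.Agent.SFourFree
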